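import Mathlib.LinearAlgebra.Prod
import Mathlib.LinearAlgebra.Basis.Prod
import Mathlib.RingTheory.Ideal.Quotient.Operations
import Mathlib.Algebra.Polynomial.AlgebraMap
import Mathlib.Algebra.Polynomial.Basis
import Mathlib.Tactic.LinearCombination

/-!
Adjoining to an `R`-algebra `B` an element `X` subject to `(f - φ f) X = D f`, where `φ : B → R` is a
point and `D` satisfies `D (f g) = f D g + φ g D f`: the result is `B ⊕ X R[X]`.
-/

universe u v

namespace Groth.Agent.Lib.CurveU16

open Polynomial

variable {R : Type u} [CommRing R] {B : Type v} [CommRing B] [Algebra R B]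
variable (φ : B →ₐ[R] R) (D : B →ₗ[R] B) (hD : ∀ f g, D (f * g) = f * D g + φ g • D f)

/-- The defining relations. -/
def adjRel : Set B[X] :=
  Set.range fun f : B => C (f - algebraMap R B (φ f)) * X - C (D f)

/-- The algebra obtained by adjoining the new function. -/
abbrev Adj : Type v := B[X] ⧸ Ideal.span (adjRel φ D)

/-- multiplication by the new function on `B ⊕ X R[X]` -/
noncomputable def opX : Module.End R (B × R[X]) where
  toFun m := (D m.1, C (φ m.1) + X * m.2)
  map_add' m n := by ext <;> simp [mul_add] ; ring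
  map_smul' r m := by refine Prod.ext ?_ ?_ <;> simp [Polynomial.smul_eq_C_mul] <;> ring

lemma opX_apply (b : B) (q : R[X]) : opX φ D (b, q) = (D b, C (φ b) + X * q) := rfl

lemma aeval_opX_snd (p q : R[X]) : aeval (opX φ D) p ((0 : B), q) = (0, p * q) := by
  induction p using Polynomial.induction_on generalizing q with
  | C r => simp [Module.algebraMap_end_apply, Polynomial.smul_eq_C_mul]
  | add p p' hp hp' => simp [hp, hp', add_mul]
  | monomial n r h =>
    rw [pow_succ, ← mul_assoc, map_mul, Module.End.mul_apply, aeval_X, opX_apply, map_zero, map_zero,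
      map_zero, zero_add, h, mul_assoc (C r * X ^ n)]

include hD in
lemma D_one : D 1 = 0 := by
  have h := hD 1 1
  simp only [mul_one, one_mul, map_one, one_smul] at h
  simpa using h

include hD in
lemma aeval_opX_X_mul_one (q : R[X]) : aeval (opX φ D) (X * q) ((1 : B), (0 : R[X])) = (0, q) := by
  rw [mul_comm, map_mul, Module.End.mul_apply, aeval_X, opX_apply, D_one φ D hD]
  simp [aeval_opX_snd]

/-- multiplication by an element of `B` on `B ⊕ X R[X]` -/
noncomputable def opB (f : B) : Module.End R (B × R[X]) where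
  toFun m := (f * m.1, 0) + aeval (opX φ D) (X * m.2) (f, 0)
  map_add' m n := by
    simp only [Prod.fst_add, Prod.snd_add, mul_add, map_add, LinearMap.add_apply]
    rw [show ((f * m.1 + f * n.1, 0) : B × R[X]) = (f * m.1, 0) + (f * n.1, 0) by simp]
    abel
  map_smul' r m := by
    simp only [Prod.smul_fst, Prod.smul_snd, mul_smul_comm, map_smul, LinearMap.smul_apply,
      RingHom.id_apply, smul_add]
    congr 1
    simp

lemma opB_apply (f b : B) (q : R[X]) :
    opB φ D f (b, q) = (f * b, 0) + aeval (opX φ D) (X * q) (f, 0) := rfl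

lemma opB_fst (f b : B) : opB φ D f (b, 0) = (f * b, 0) := by simp [opB_apply]

include hD in
lemma opB_opX (f : B) : Commute (opB φ D f) (opX φ D) := by
  apply LinearMap.ext
  rintro ⟨b, q⟩
  simp only [Module.End.mul_apply, opX_apply, opB_apply, map_add, mul_add, LinearMap.add_apply]
  rw [mul_comm X (C (φ b)), map_mul, aeval_C, aeval_X, Module.End.mul_apply,
    Module.algebraMap_end_apply]
  rw [← add_assoc]
  congr 1
  · rw [hD f b]
    simp [opX_apply, Polynomial.smul_eq_C_mul, mul_comm]
  · rw [map_mul, aeval_X, Module.End.mul_apply]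

include hD in
lemma opB_mul (f g : B) : opB φ D (f * g) = opB φ D f * opB φ D g := by
  apply LinearMap.ext
  rintro ⟨b, q⟩
  simp only [Module.End.mul_apply, opB_apply φ D g, map_add, opB_fst, opB_apply φ D (f * g), mul_assoc]
  congr 1
  have hc : Commute (opB φ D f) (aeval (opX φ D) (X * q)) := by
    have := opB_opX φ D hD f
    induction (X * q : R[X]) using Polynomial.induction_on with
    | C r => rw [aeval_C]; exact (Algebra.commutes r (opB φ D f)).symm
    | add p p' hp hp' => rw [map_add]; exact hp.add_right hp'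
    | monomial n r h =>
      rw [pow_succ, ← mul_assoc, map_mul, aeval_X]; exact h.mul_right this
  rw [← Module.End.mul_apply (opB φ D f), hc.eq, Module.End.mul_apply, opB_fst]

include hD in
lemma opB_one : opB φ D 1 = 1 := by
  apply LinearMap.ext
  rintro ⟨b, q⟩
  rw [opB_apply, aeval_opX_X_mul_one φ D hD]
  simp

lemma opB_add (f g : B) : opB φ D (f + g) = opB φ D f + opB φ D g := by
  apply LinearMap.ext
  rintro ⟨b, q⟩
  simp only [LinearMap.add_apply, opB_apply, add_mul]
  rw [show ((f + g, 0) : B × R[X]) = (f, 0) + (g, 0) by simp, map_add,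
    show ((f * b + g * b, 0) : B × R[X]) = (f * b, 0) + (g * b, 0) by simp]
  abel

/-- `opB` as a ring homomorphism -/
noncomputable def opBHom : B →+* Module.End R (B × R[X]) where
  toFun := opB φ D
  map_one' := opB_one φ D hD
  map_mul' := opB_mul φ D hD
  map_zero' := by
    apply LinearMap.ext
    rintro ⟨b, q⟩
    rw [opB_apply, show ((0 : B), (0 : R[X])) = (0 : B × R[X]) from rfl, map_zero]
    simp
  map_add' := opB_add φ D

/-- the action of `B[X]` -/
noncomputable def actHom : B[X] →+* Module.End R (B × R[X]) :=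
  eval₂RingHom' (opBHom φ D hD) (opX φ D) (opB_opX φ D hD)

lemma actHom_C (f : B) : actHom φ D hD (C f) = opB φ D f := eval₂_C _ _
lemma actHom_X : actHom φ D hD X = opX φ D := eval₂_X _ _

lemma actHom_map (p : R[X]) : actHom φ D hD (p.map (algebraMap R B)) = aeval (opX φ D) p := by
  induction p using Polynomial.induction_on with
  | C r =>
    rw [Polynomial.map_C, actHom_C, aeval_C]
    apply LinearMap.ext
    rintro ⟨b, q⟩
    rw [opB_apply, Module.algebraMap_end_apply,
      show ((algebraMap R B r, 0) : B × R[X]) = r • ((1 : B), (0 : R[X])) by simp [Algebra.smul_def],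
      map_smul, aeval_opX_X_mul_one φ D hD]
    simp [Algebra.smul_def]
  | add p p' hp hp' => simp only [Polynomial.map_add, map_add, hp, hp']
  | monomial n r h =>
    rw [pow_succ, ← mul_assoc, Polynomial.map_mul, map_mul, h, Polynomial.map_X, actHom_X, map_mul (aeval (opX φ D)) _ X, aeval_X]

lemma adjRel_kills {p : B[X]} (hp : p ∈ Ideal.span (adjRel φ D)) :
    actHom φ D hD p ((1 : B), (0 : R[X])) = 0 := by
  induction hp using Submodule.span_induction with
  | mem q hq =>
    obtain ⟨f, rfl⟩ := hq
    rw [map_sub, map_mul, actHom_X, actHom_C, actHom_C, LinearMap.sub_apply,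
      Module.End.mul_apply, opX_apply, D_one φ D hD, opB_fst]
    simp only [map_one, mul_zero, add_zero, mul_one]
    rw [opB_apply]
    simp only [mul_zero, mul_one, aeval_X, opX_apply]
    simp [Algebra.algebraMap_eq_smul_one, D_one φ D hD]
  | zero => simp
  | add x y _ _ hx hy => simp [hx, hy]
  | smul r x _ hx => simp [hx]

/-- normal form -/
noncomputable def toPairPre : B[X] →+ B × R[X] where
  toFun p := actHom φ D hD p ((1 : B), (0 : R[X]))
  map_zero' := by simp
  map_add' p q := by simp

/-- the canonical map `B ⊕ X R[X] → Adj` -/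
noncomputable def ofPair : B × R[X] →ₗ[R] Adj φ D where
  toFun m := Ideal.Quotient.mk _ (C m.1 + X * m.2.map (algebraMap R B))
  map_add' m n := by simp [mul_add]; ring
  map_smul' r m := by
    show Ideal.Quotient.mk _ _ = r • Ideal.Quotient.mk (Ideal.span (adjRel φ D)) _
    rw [← Ideal.Quotient.mkₐ_eq_mk R, ← map_smul]
    congr 1
    simp [Algebra.smul_def, Polynomial.algebraMap_apply]
    ring

include hD in
lemma ofPair_injective : Function.Injective (ofPair φ D) := by
  rw [← LinearMap.ker_eq_bot, LinearMap.ker_eq_bot']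
  rintro ⟨b, q⟩ h
  have h' : actHom φ D hD (C b + X * q.map (algebraMap R B)) ((1 : B), (0 : R[X])) = 0 :=
    adjRel_kills φ D hD (Ideal.Quotient.eq_zero_iff_mem.1 h)
  rw [show C b + X * q.map (algebraMap R B) = C b + (X * q).map (algebraMap R B) by simp, map_add,
    actHom_map, LinearMap.add_apply, actHom_C, opB_fst, aeval_opX_X_mul_one φ D hD] at h'
  simpa using h'

lemma ofPair_surjective : Function.Surjective (ofPair φ D) := by
  intro x
  obtain ⟨p, rfl⟩ := Ideal.Quotient.mk_surjective x
  have hX : ∀ y ∈ LinearMap.range (ofPair φ D),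
      Ideal.Quotient.mk _ X * y ∈ LinearMap.range (ofPair φ D) := by
    rintro _ ⟨⟨b, q⟩, rfl⟩
    refine ⟨(D b, C (φ b) + X * q), ?_⟩
    have h : Ideal.Quotient.mk (Ideal.span (adjRel φ D)) (C (b - algebraMap R B (φ b)) * X - C (D b)) = 0 :=
      Ideal.Quotient.eq_zero_iff_mem.2 (Ideal.subset_span ⟨b, rfl⟩)
    show Ideal.Quotient.mk _ _ = Ideal.Quotient.mk _ X * Ideal.Quotient.mk _ _
    simp only [Polynomial.map_add, Polynomial.map_mul, Polynomial.map_X, Polynomial.map_C,
      map_add, map_mul, map_sub] at h ⊢
    linear_combination -h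
  have hpow : ∀ (n : ℕ) (f : B), Ideal.Quotient.mk _ (C f * X ^ n) ∈ LinearMap.range (ofPair φ D) := by
    intro n
    induction n with
    | zero => exact fun f => ⟨(f, 0), by simp [ofPair]⟩
    | succ n ih =>
      intro f
      rw [pow_succ, ← mul_assoc, mul_comm (C f * X ^ n), map_mul]
      exact hX _ (ih f)
  show Ideal.Quotient.mk _ p ∈ LinearMap.range (ofPair φ D)
  induction p using Polynomial.induction_on' with
  | add p q hp hq => rw [map_add]; exact add_mem hp hq
  | monomial n f => rw [← C_mul_X_pow_eq_monomial]; exact hpow n f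

/-- `Adj ≅ B ⊕ X R[X]` -/
noncomputable def adjEquiv : (B × R[X]) ≃ₗ[R] Adj φ D :=
  LinearEquiv.ofBijective (ofPair φ D) ⟨ofPair_injective φ D hD, ofPair_surjective φ D⟩

/-- the basis of `Adj` extending a basis of `B` by the powers of the new element -/
noncomputable def adjBasis {ι : Type*} (b : Module.Basis ι R B) : Module.Basis (ι ⊕ ℕ) R (Adj φ D) :=
  (b.prod (Polynomial.basisMonomials R)).map (adjEquiv φ D hD)

lemma adjBasis_inl {ι : Type*} (b : Module.Basis ι R B) (i : ι) :
    adjBasis φ D hD b (Sum.inl i) = Ideal.Quotient.mk _ (C (b i)) := by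
  simp [adjBasis, adjEquiv, ofPair]

lemma adjBasis_inr {ι : Type*} (b : Module.Basis ι R B) (k : ℕ) :
    adjBasis φ D hD b (Sum.inr k) = Ideal.Quotient.mk _ (X ^ (k + 1)) := by
  simp [adjBasis, adjEquiv, ofPair, pow_succ', Polynomial.monomial_one_right_eq_X_pow]

end Groth.Agent.Lib.CurveU16
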