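import Mathlib.RingTheory.Ideal.Quotient.Operations
import Mathlib.Algebra.MvPolynomial.CommRing
import Mathlib.LinearAlgebra.Matrix.Notation
import Mathlib.Data.Matrix.Basic
import Mathlib.Tactic.LinearCombination

/-!
Extension of prescribed values on the variables to a map `D` on a quotient of a polynomial ring
satisfying `D (f g) = f D g + φ g D f` for a point `φ`.
-/

universe u v

namespace Groth.Agent.Lib.CurveU16

open MvPolynomial

variable {R : Type u} [CommRing R] {σ : Type v} {B : Type*} [CommRing B] [Algebra R B]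
variable (π : MvPolynomial σ R →ₐ[R] B) (pt : σ → R) (δ : σ → B)

/-- triangular matrix attached to a variable -/
noncomputable def triGen (y : σ) : Matrix (Fin 2) (Fin 2) B :=
  !![π (X y), δ y; 0, algebraMap R B (pt y)]

theorem exists_dext_pre
    (hcomm : ∀ y z, (π (X y) - algebraMap R B (pt y)) * δ z = (π (X z) - algebraMap R B (pt z)) * δ y) :
    ∃ D : MvPolynomial σ R →ₗ[R] B, (∀ y, D (X y) = δ y) ∧ (∀ r, D (C r) = 0) ∧
      ∀ p q, D (p * q) = π p * D q + aeval pt q • D p := by
  classical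
  have hc : ∀ a ∈ Set.range (triGen π pt δ), ∀ b ∈ Set.range (triGen π pt δ), a * b = b * a := by
    rintro _ ⟨y, rfl⟩ _ ⟨z, rfl⟩
    have h := hcomm y z
    simp only [sub_mul] at h
    ext i j
    fin_cases i <;> fin_cases j <;> simp [triGen, Matrix.mul_apply, Fin.sum_univ_two] <;>
      first | ring1 | linear_combination h
  let S := Algebra.adjoin R (Set.range (triGen π pt δ))
  letI : CommRing S := Algebra.adjoinCommRingOfComm R hc
  let Θ : MvPolynomial σ R →ₐ[R] S := aeval fun y => ⟨triGen π pt δ y, Algebra.subset_adjoin ⟨y, rfl⟩⟩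
  let E : MvPolynomial σ R → Matrix (Fin 2) (Fin 2) B := fun p => ((Θ p : S) : Matrix (Fin 2) (Fin 2) B)
  have hadd : ∀ p q, E (p + q) = E p + E q := fun p q => by simp [E]
  have hmul : ∀ p q, E (p * q) = E p * E q := fun p q => by simp [E]
  have hC : ∀ r, E (C r) = algebraMap R _ r := fun r => by simp [E, Θ]
  have hX : ∀ y, E (X y) = triGen π pt δ y := fun y => by simp [E, Θ]
  have hdiag : ∀ p, E p 0 0 = π p ∧ E p 1 0 = 0 ∧ E p 1 1 = algebraMap R B (aeval pt p) := by
    intro p
    induction p using MvPolynomial.induction_on with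
    | C r => simp [hC, Matrix.algebraMap_matrix_apply]
    | add p q hp hq => simp [hadd, hp.1, hp.2.1, hp.2.2, hq.1, hq.2.1, hq.2.2]
    | mul_X p y hp =>
      simp [hmul, hX, triGen, Matrix.mul_apply, Fin.sum_univ_two, hp.1, hp.2.1, hp.2.2]
  refine ⟨{ toFun := fun p => E p 0 1, map_add' := fun p q => by simp [hadd],
            map_smul' := fun r p => by
              simp [smul_eq_C_mul, hmul, hC, Matrix.mul_apply, Fin.sum_univ_two,
                Matrix.algebraMap_matrix_apply, Algebra.smul_def] },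
    fun y => ?_, fun r => ?_, fun p q => ?_⟩
  · simp [hX, triGen]
  · simp [hC, Matrix.algebraMap_matrix_apply]
  · show E (p * q) 0 1 = π p * E q 0 1 + _
    simp [hmul, Matrix.mul_apply, Fin.sum_univ_two, (hdiag p).1, (hdiag q).2.2, Algebra.smul_def]
    ring

/-- the quotient version -/
theorem exists_dext {S : Set (MvPolynomial σ R)} (δ : σ → MvPolynomial σ R ⧸ Ideal.span S)
    (hpt : ∀ p ∈ S, aeval pt p = 0)
    (hcomm : ∀ y z, (Ideal.Quotient.mkₐ R (Ideal.span S) (X y) - algebraMap R _ (pt y)) * δ z =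
      (Ideal.Quotient.mkₐ R (Ideal.span S) (X z) - algebraMap R _ (pt z)) * δ y)
    (hrel : ∀ D : MvPolynomial σ R →ₗ[R] MvPolynomial σ R ⧸ Ideal.span S,
      (∀ y, D (X y) = δ y) → (∀ r, D (C r) = 0) →
      (∀ p q, D (p * q) = Ideal.Quotient.mk _ p * D q + aeval pt q • D p) → ∀ p ∈ S, D p = 0) :
    ∃ (φ : (MvPolynomial σ R ⧸ Ideal.span S) →ₐ[R] R)
      (D : (MvPolynomial σ R ⧸ Ideal.span S) →ₗ[R] MvPolynomial σ R ⧸ Ideal.span S),
      (∀ y, φ (Ideal.Quotient.mk _ (X y)) = pt y) ∧
      (∀ y, D (Ideal.Quotient.mk _ (X y)) = δ y) ∧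
      (∀ f g, D (f * g) = f * D g + φ g • D f) := by
  obtain ⟨D, hX, hC, hmul⟩ := exists_dext_pre (Ideal.Quotient.mkₐ R (Ideal.span S)) pt δ hcomm
  have hker : Ideal.span S ≤ RingHom.ker (aeval pt) := Ideal.span_le.2 hpt
  let φ : (MvPolynomial σ R ⧸ Ideal.span S) →ₐ[R] R :=
    Ideal.Quotient.liftₐ _ (aeval pt) fun p hp => hker hp
  have hD0 : ∀ p ∈ Ideal.span S, D p = 0 := by
    intro p hp
    induction hp using Submodule.span_induction with
    | mem q hq => exact hrel D hX hC hmul q hq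
    | zero => simp
    | add x y _ _ hx hy => simp [hx, hy]
    | smul r x hx' hx =>
      rw [smul_eq_mul, hmul, hx, show aeval pt x = 0 from hker hx', zero_smul, mul_zero, add_zero]
  have hker' : (Ideal.span S).restrictScalars R ≤ LinearMap.ker D := fun p hp => hD0 p hp
  let D' : (MvPolynomial σ R ⧸ Ideal.span S) →ₗ[R] MvPolynomial σ R ⧸ Ideal.span S :=
    (((Ideal.span S).restrictScalars R).liftQ D hker').comp
      (Submodule.Quotient.restrictScalarsEquiv R (Ideal.span S)).symm.toLinearMap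
  have hD' : ∀ p, D' (Ideal.Quotient.mk _ p) = D p := fun p => rfl
  refine ⟨φ, D', fun y => ?_, fun y => ?_, fun f g => ?_⟩
  · show aeval pt (X y) = pt y
    simp
  · rw [hD', hX]
  · obtain ⟨p, rfl⟩ := Ideal.Quotient.mk_surjective f
    obtain ⟨q, rfl⟩ := Ideal.Quotient.mk_surjective g
    rw [← map_mul, hD', hD', hD', hmul]
    rfl

end Groth.Agent.Lib.CurveU16
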