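import Groth.Agent.Lib.CurveU16.Rels
import Groth.Agent.Lib.CurveU16.Dext
import Groth.Agent.Lib.CurveU16.Adjoin
import Groth.Agent.S18251

/-!
The monomial basis of the affine curve over a point of `U_n`.
-/

universe u v

namespace Groth.Agent.Lib.CurveU16

open MvPolynomial W4c5m1nsnscurves

variable {R : Type u} [CommRing R] {m : ℕ}

/-- the cubic of the first three marked points -/
noncomputable def cubicP (v : UGen m → R) (d : R) : MvPolynomial (CVar m) R :=
  X .x2 * X .x3 ^ 2 - X .x2 ^ 2 * X .x3 -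
    (C (v .a) * X .x2 * X .x3 + C (v .cb - v .c) * X .x2 + C (v .c) * X .x3 + C d)

/-- relations of the curve together with the cubic -/
noncomputable def CRelP (v : UGen m → R) (d : R) : Set (MvPolynomial (CVar m) R) :=
  insert (cubicP v d) (CRel R m v)

/-- the curve algebra with the cubic -/
abbrev CPlus (v : UGen m → R) (d : R) : Type u :=
  MvPolynomial (CVar m) R ⧸ Ideal.span (CRelP v d)

/-- the monomials -/
noncomputable def cmonP (v : UGen m → R) (d : R) : Option (ℕ ⊕ (CVar m × ℕ)) → CPlus v d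
  | none => 1
  | some (Sum.inl k) => Ideal.Quotient.mk _ (X .x2 ^ (k + 1) * X .x3)
  | some (Sum.inr (y, k)) => Ideal.Quotient.mk _ (X y ^ (k + 1))

lemma mkP_rel (v : UGen m → R) (d : R) {p : MvPolynomial (CVar m) R} (hp : p ∈ CRelP v d) :
    (Ideal.Quotient.mk (Ideal.span (CRelP v d)) p : CPlus v d) = 0 :=
  Ideal.Quotient.eq_zero_iff_mem.2 (Ideal.subset_span hp)

section rels
variable (v : UGen m → R) (d : R)

local notation "π" => Ideal.Quotient.mk (Ideal.span (CRelP v d))
local notation "κ" => algebraMap R (CPlus v d)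

lemma mkP_C (r : R) : π (C r) = κ r := rfl

lemma relC : π (X .x2) * π (X .x3) ^ 2 = π (X .x2) ^ 2 * π (X .x3) + κ (v .a) * π (X .x2) * π (X .x3) +
    (κ (v .cb) - κ (v .c)) * π (X .x2) + κ (v .c) * π (X .x3) + κ d := by
  have h := mkP_rel v d (Set.mem_insert _ _ : cubicP v d ∈ CRelP v d)
  simp only [cubicP, map_sub, map_add, map_mul, map_pow, mkP_C] at h
  linear_combination h

lemma rel1 (i : Fin m) : π (X .x2) * π (X (.xi i)) = π (X .x2) * π (X .x3) + κ (v (.ci i)) * π (X (.xi i)) +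
    κ (v (.cbi i)) * π (X .x2) - κ (v .c) := by
  have h := mkP_rel v d (Set.mem_insert_of_mem _ (Or.inl (Or.inl ⟨i, rfl⟩)))
  simp only [map_sub, map_add, map_mul, mkP_C] at h
  linear_combination h

lemma rel2 (i : Fin m) : π (X .x3) * π (X (.xi i)) = π (X .x2) * π (X .x3) +
    (κ (v .a) + κ (v (.ci i)) + κ (v (.cbi i))) * (π (X (.xi i)) - κ (v (.cbi i))) + κ (v .cb) - κ (v .c) := by
  have h := mkP_rel v d (Set.mem_insert_of_mem _ (Or.inl (Or.inr ⟨i, rfl⟩)))
  simp only [map_sub, map_add, map_mul, mkP_C] at h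
  linear_combination h

lemma rel3 (i j : Fin m) (hij : i ≠ j) : π (X (.xi i)) * π (X (.xi j)) = π (X .x2) * π (X .x3) +
    κ (v (.cij i j hij)) * π (X (.xi j)) + κ (v (.cij j i hij.symm)) * π (X (.xi i)) - κ (v .c) := by
  have h := mkP_rel v d (Set.mem_insert_of_mem _ (Or.inr ⟨⟨(i, j), hij⟩, rfl⟩))
  simp only [map_sub, map_add, map_mul, mkP_C] at h
  linear_combination h

end rels

/-- the point of the curve over the restricted values given by the last marked point -/
noncomputable def ptLast (v : UGen (m + 1) → R) : CVar m → R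
  | .x2 => v (.ci (Fin.last m))
  | .x3 => sOf v (Fin.last m)
  | .xi i => v (.cij i.castSucc (Fin.last m) (Fin.castSucc_lt_last i).ne)

/-- the values of `x_last * (y - pt y)` -/
noncomputable def deltaLast (v : UGen (m + 1) → R) (d : R) : CVar m → CPlus (v ∘ UGen.castSucc) d
  | .x2 => Ideal.Quotient.mk _ (X .x2 * X .x3 + C (v (.cbi (Fin.last m))) * X .x2 - C (v .c))
  | .x3 => Ideal.Quotient.mk _
      (X .x2 * X .x3 - C (sOf v (Fin.last m) * v (.cbi (Fin.last m))) + C (v .cb) - C (v .c))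
  | .xi i => Ideal.Quotient.mk _ (X .x2 * X .x3 +
      C (v (.cij (Fin.last m) i.castSucc (Fin.castSucc_lt_last i).ne.symm)) * X (.xi i) - C (v .c))

theorem exists_lastData (v : UGen (m + 1) → R) (d : R) (h : Rels v) (hd : d = dOf v (Fin.last m)) :
    ∃ (φ : CPlus (v ∘ UGen.castSucc) d →ₐ[R] R)
      (D : CPlus (v ∘ UGen.castSucc) d →ₗ[R] CPlus (v ∘ UGen.castSucc) d),
      (∀ y, φ (Ideal.Quotient.mk _ (X y)) = ptLast v y) ∧
      (∀ y, D (Ideal.Quotient.mk _ (X y)) = deltaLast v d y) ∧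
      (∀ f g, D (f * g) = f * D g + φ g • D f) := by
  have hne : ∀ i : Fin m, i.castSucc ≠ Fin.last m := fun i => (Fin.castSucc_lt_last i).ne
  let κ : R →+* CPlus (v ∘ UGen.castSucc) d := algebraMap R (CPlus (v ∘ UGen.castSucc) d)
  have hq : ∀ i : Fin m, κ (v (.cij (Fin.last m) i.castSucc (hne i).symm)) =
      κ (v .a) + κ (v (.ci i.castSucc)) + κ (v (.cbi i.castSucc)) + κ (v (.ci (Fin.last m))) +
        κ (v (.cbi (Fin.last m))) - κ (v (.cij i.castSucc (Fin.last m) (hne i))) := by
    intro i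
    simp only [← map_add, ← map_sub]
    congr 1
    linear_combination h.r1 i.castSucc (Fin.last m) (hne i)
  have hc : ∀ i : Fin m, κ (v .c) =
      κ (v (.cij (Fin.last m) i.castSucc (hne i).symm)) * κ (v (.ci (Fin.last m))) +
        κ (v (.cij i.castSucc (Fin.last m) (hne i))) * κ (v (.ci i.castSucc)) -
        κ (v (.ci i.castSucc)) * κ (v (.ci (Fin.last m))) := by
    intro i
    simp only [← map_add, ← map_mul, ← map_sub]
    rw [← h.r2 i.castSucc (Fin.last m) (hne i)]
  have hcb : ∀ i : Fin m, κ (v .cb) =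
      κ (v (.cij (Fin.last m) i.castSucc (hne i).symm)) * κ (v (.cbi i.castSucc)) +
        κ (v (.cij i.castSucc (Fin.last m) (hne i))) * κ (v (.cbi (Fin.last m))) -
        κ (v (.cbi i.castSucc)) * κ (v (.cbi (Fin.last m))) := by
    intro i
    simp only [← map_add, ← map_mul, ← map_sub]
    rw [← h.r3 i.castSucc (Fin.last m) (hne i)]
  have hdκ : κ d = -κ (v .c) * (κ (v .a) + κ (v (.ci (Fin.last m))) + κ (v (.cbi (Fin.last m)))) +
      κ (v (.ci (Fin.last m))) * ((κ (v .a) + κ (v (.ci (Fin.last m))) + κ (v (.cbi (Fin.last m)))) *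
        κ (v (.cbi (Fin.last m))) - κ (v .cb) + κ (v .c)) := by
    simp only [← map_add, ← map_mul, ← map_sub, ← map_neg, hd, dOf, sOf]
  have hji : ∀ (i j : Fin m) (hij : i ≠ j), κ ((v ∘ UGen.castSucc) (.cij j i hij.symm)) =
      κ ((v ∘ UGen.castSucc) .a) + κ ((v ∘ UGen.castSucc) (.ci i)) + κ ((v ∘ UGen.castSucc) (.cbi i)) + κ ((v ∘ UGen.castSucc) (.ci j)) + κ ((v ∘ UGen.castSucc) (.cbi j)) - κ ((v ∘ UGen.castSucc) (.cij i j hij)) := by
    intro i j hij
    simp only [← map_add, ← map_sub]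
    congr 1
    linear_combination h.restrict.r1 i j hij
  have ht : ∀ (i j : Fin m) (hij : i ≠ j),
      κ (v (.cij (Fin.last m) j.castSucc (hne j).symm)) * κ ((v ∘ UGen.castSucc) (.cij j i hij.symm)) +
        κ (v (.cij j.castSucc (Fin.last m) (hne j))) * κ (v (.cij (Fin.last m) i.castSucc (hne i).symm)) -
        κ ((v ∘ UGen.castSucc) (.cij j i hij.symm)) * κ (v (.cij (Fin.last m) i.castSucc (hne i).symm)) +
        (κ ((v ∘ UGen.castSucc) .a) + κ ((v ∘ UGen.castSucc) (.ci i)) + κ ((v ∘ UGen.castSucc) (.cbi i))) * κ ((v ∘ UGen.castSucc) (.ci i)) - κ (v .c) = 0 := by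
    intro i j hij
    simp only [← map_add, ← map_mul, ← map_sub]
    rw [← map_zero κ]
    congr 1
    have h4 := h.r4 (Fin.last m) j.castSucc i.castSucc (hne j).symm
      (fun e => hij (Fin.castSucc_injective _ e).symm) (hne i).symm
    simp only [sOf] at h4
    simp only [Function.comp_apply, UGen.castSucc]
    linear_combination h4
  refine exists_dext (R := R) (ptLast v) (deltaLast v d) ?_ ?_ ?_
  · intro p hp
    rcases Set.mem_insert_iff.1 hp with rfl | ((⟨i, rfl⟩ | ⟨i, rfl⟩) | ⟨⟨⟨i, j⟩, hij⟩, rfl⟩)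
    · simp [cubicP, ptLast, UGen.castSucc, hd, dOf, sOf]
      ring
    · simp [ptLast, UGen.castSucc, sOf]
      linear_combination h.r2 i.castSucc (Fin.last m) (hne i) -
        v (.ci (Fin.last m)) * h.r1 i.castSucc (Fin.last m) (hne i) * (-1)
    · simp [ptLast, UGen.castSucc, sOf]
      linear_combination (-1 : R) * h.r3 i.castSucc (Fin.last m) (hne i) + h.r2 i.castSucc (Fin.last m) (hne i) +
        (v (.ci (Fin.last m)) - v (.cbi i.castSucc)) * h.r1 i.castSucc (Fin.last m) (hne i)
    · simp [ptLast, UGen.castSucc, sOf]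
      have h4 := h.r4 i.castSucc j.castSucc (Fin.last m) (fun e => hij (Fin.castSucc_injective _ e)) (hne j) (hne i)
      simp only [sOf] at h4
      linear_combination -h4
  · intro y z
    cases y with
    | x2 =>
      cases z with
      | x2 => rfl
      | x3 =>
        simp only [deltaLast, ptLast, map_add, map_sub, map_mul, Ideal.Quotient.mkₐ_eq_mk, mkP_C, sOf]
        exact id_C23 (relC (v ∘ UGen.castSucc) d) hdκ
      | xi i =>
        simp only [deltaLast, ptLast, map_add, map_sub, map_mul, Ideal.Quotient.mkₐ_eq_mk, mkP_C, sOf]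
        exact id_C2i (rel1 (v ∘ UGen.castSucc) d i) (rel2 (v ∘ UGen.castSucc) d i) (hq i) (hc i) (hcb i)
    | x3 =>
      cases z with
      | x2 =>
        simp only [deltaLast, ptLast, map_add, map_sub, map_mul, Ideal.Quotient.mkₐ_eq_mk, mkP_C, sOf]
        exact (id_C23 (relC (v ∘ UGen.castSucc) d) hdκ).symm
      | x3 => rfl
      | xi i =>
        simp only [deltaLast, ptLast, map_add, map_sub, map_mul, Ideal.Quotient.mkₐ_eq_mk, mkP_C, sOf]
        exact id_C3i (rel1 (v ∘ UGen.castSucc) d i) (rel2 (v ∘ UGen.castSucc) d i) (relC (v ∘ UGen.castSucc) d) (hq i) (hc i) (hcb i) hdκ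
    | xi i =>
      cases z with
      | x2 =>
        simp only [deltaLast, ptLast, map_add, map_sub, map_mul, Ideal.Quotient.mkₐ_eq_mk, mkP_C, sOf]
        exact (id_C2i (rel1 (v ∘ UGen.castSucc) d i) (rel2 (v ∘ UGen.castSucc) d i) (hq i) (hc i) (hcb i)).symm
      | x3 =>
        simp only [deltaLast, ptLast, map_add, map_sub, map_mul, Ideal.Quotient.mkₐ_eq_mk, mkP_C, sOf]
        exact (id_C3i (rel1 (v ∘ UGen.castSucc) d i) (rel2 (v ∘ UGen.castSucc) d i) (relC (v ∘ UGen.castSucc) d) (hq i) (hc i) (hcb i) hdκ).symm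
      | xi j =>
        by_cases hij : i = j
        · subst hij; rfl
        simp only [deltaLast, ptLast, map_add, map_sub, map_mul, Ideal.Quotient.mkₐ_eq_mk, mkP_C]
        exact id_Cij (rel1 (v ∘ UGen.castSucc) d i) (rel2 (v ∘ UGen.castSucc) d i) (rel1 (v ∘ UGen.castSucc) d j) (rel2 (v ∘ UGen.castSucc) d j) (rel3 (v ∘ UGen.castSucc) d i j hij) (hji i j hij)
          (hq j) (hq i) (ht i j hij) (ht j i (Ne.symm hij))
  · intro D hX hC hmul p hp
    have hmul' : ∀ p q, D (p * q) = Ideal.Quotient.mk _ p * D q + κ (aeval (ptLast v) q) * D p := fun p q => by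
      rw [hmul]; exact congrArg (_ + ·) (Algebra.smul_def (A := CPlus (v ∘ UGen.castSucc) d) _ _)
    have hCl : ∀ (r : R) q, D (C r * q) = κ r * D q := fun r q => by
      rw [hmul, hC, smul_zero, add_zero]; rfl
    rcases Set.mem_insert_iff.1 hp with rfl | ((⟨i, rfl⟩ | ⟨i, rfl⟩) | ⟨⟨⟨i, j⟩, hij⟩, rfl⟩)
    · have e1 : cubicP (v ∘ UGen.castSucc) d = X .x2 * (X .x3 * X .x3) - X .x2 * (X .x2 * X .x3) -
          (C (v .a) * (X .x2 * X .x3) + C (v .cb - v .c) * X .x2 + C (v .c) * X .x3 + C d) := by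
        simp only [cubicP, Function.comp_apply, UGen.castSucc]; ring
      rw [e1]
      simp only [map_sub D, map_add D, hCl, hmul', hX, hC, deltaLast, ptLast, map_add, map_sub, map_mul,
        mkP_C, aeval_X, κ, sOf]
      have e := id_Dc (relC (v ∘ UGen.castSucc) d) hdκ
      simp only [Function.comp_apply, UGen.castSucc, κ] at e ⊢
      linear_combination e
    · simp only [map_sub D, map_add D, hCl, hmul', hX, hC, deltaLast, ptLast, map_add, map_sub, map_mul,
        mkP_C, aeval_X, κ, sOf]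
      have e := id_D1 (rel1 (v ∘ UGen.castSucc) d i) (hq i) (hc i) (hcb i)
      simp only [Function.comp_apply, UGen.castSucc, κ] at e ⊢
      linear_combination e
    · simp only [map_sub D, map_add D, hCl, hmul', hX, hC, deltaLast, ptLast, map_add, map_sub, map_mul,
        mkP_C, aeval_X, κ, sOf]
      have e := id_D2 (rel2 (v ∘ UGen.castSucc) d i) (relC (v ∘ UGen.castSucc) d) (hq i) (hc i) (hcb i) hdκ
      simp only [Function.comp_apply, UGen.castSucc, κ] at e ⊢
      linear_combination e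
    · simp only [map_sub D, map_add D, hCl, hmul', hX, hC, deltaLast, ptLast, map_add, map_sub, map_mul,
        mkP_C, aeval_X, κ, sOf]
      have e := id_D3 (rel1 (v ∘ UGen.castSucc) d i) (rel2 (v ∘ UGen.castSucc) d i) (rel3 (v ∘ UGen.castSucc) d i j hij) (hji i j hij) (hq j) (ht i j hij)
      simp only [Function.comp_apply, UGen.castSucc, κ] at e ⊢
      linear_combination e

end Groth.Agent.Lib.CurveU16
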