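import Groth.Agent.Lib.CurveU16.Main

/-!
`1, x₂^k x₃, y^k` is a basis of the affine curve if and only if the relations of `U_n` hold.
-/

universe u v

namespace Groth.Agent.Lib.CurveU16

open W4c5m1nsnscurves MvPolynomial

variable {R : Type u} [CommRing R] {m : ℕ}

theorem cmon_basis_of_rels (hm : 1 ≤ m) (v : UGen m → R) (h : Rels v) :
    LinearIndependent R (cmon R m v) ∧ Submodule.span R (Set.range (cmon R m v)) = ⊤ := by
  let i₀ : Fin m := ⟨0, hm⟩
  obtain ⟨h1, h2⟩ := isMonBasis_of_rels m v (dOf v i₀) h (fun i => dOf_eq_of_rels h i₀ i)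
  let e := Ideal.quotientEquivAlgOfEq R (span_CRelP_eq (v := v) i₀)
  have he : e.toLinearEquiv.toLinearMap ∘ cmonP v (dOf v i₀) = cmon R m v := by
    funext x
    rcases x with _ | k | ⟨y, k⟩
    · exact map_one e
    · rfl
    · rfl
  refine ⟨?_, ?_⟩
  · rw [← he]; exact h1.map' _ e.toLinearEquiv.ker
  · rw [← he, Set.range_comp, ← Submodule.map_span, h2, Submodule.map_top, LinearEquiv.range]

lemma coeffs_zero {v : UGen m → R} (h : LinearIndependent R (cmon R m v)) {n : ℕ}
    (f : Fin n → Option (ℕ ⊕ (CVar m × ℕ))) (hf : Function.Injective f) (g : Fin n → R)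
    (hg : ∑ i, algebraMap R (CurveAlg R m v) (g i) * cmon R m v (f i) = 0) : ∀ i, g i = 0 := by
  refine Fintype.linearIndependent_iff.1 (h.comp f hf) g ?_
  refine Eq.trans (Finset.sum_congr rfl fun i _ => ?_) hg
  exact Algebra.smul_def (A := CurveAlg R m v) (g i) _

section

variable {v : UGen m → R}

local notation "π" => Ideal.Quotient.mk (Ideal.span (CRel R m v))
local notation "κ" => algebraMap R (CurveAlg R m v)

lemma mk_C' (r : R) : π (C r) = κ r := rfl

lemma crel1 (i : Fin m) : π (X .x2) * π (X (.xi i)) = π (X .x2) * π (X .x3) + κ (v (.ci i)) * π (X (.xi i)) +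
    κ (v (.cbi i)) * π (X .x2) - κ (v .c) := by
  have h : π _ = 0 := Ideal.Quotient.eq_zero_iff_mem.2 (Ideal.subset_span (Or.inl (Or.inl ⟨i, rfl⟩)))
  simp only [map_sub, map_add, map_mul, mk_C'] at h
  linear_combination h

lemma crel2 (i : Fin m) : π (X .x3) * π (X (.xi i)) = π (X .x2) * π (X .x3) +
    (κ (v .a) + κ (v (.ci i)) + κ (v (.cbi i))) * (π (X (.xi i)) - κ (v (.cbi i))) + κ (v .cb) - κ (v .c) := by
  have h : π _ = 0 := Ideal.Quotient.eq_zero_iff_mem.2 (Ideal.subset_span (Or.inl (Or.inr ⟨i, rfl⟩)))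
  simp only [map_sub, map_add, map_mul, mk_C'] at h
  linear_combination h

lemma crel3 (i j : Fin m) (hij : i ≠ j) : π (X (.xi i)) * π (X (.xi j)) = π (X .x2) * π (X .x3) +
    κ (v (.cij i j hij)) * π (X (.xi j)) + κ (v (.cij j i hij.symm)) * π (X (.xi i)) - κ (v .c) := by
  have h : π _ = 0 := Ideal.Quotient.eq_zero_iff_mem.2 (Ideal.subset_span (Or.inr ⟨⟨(i, j), hij⟩, rfl⟩))
  simp only [map_sub, map_add, map_mul, mk_C'] at h
  linear_combination h

theorem rels_of_linearIndependent (h : LinearIndependent R (cmon R m v)) : Rels v := by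
  have hA : ∀ (i j : Fin m) (hij : i ≠ j),
      (v .a + v (.ci i) + v (.cbi i) + v (.ci j) + v (.cbi j) - v (.cij i j hij) - v (.cij j i hij.symm) = 0) ∧
      (sOf v j * v (.ci j) + v (.ci i) * v (.cij i j hij) + v (.cbi i) * v (.ci j) - v .c -
        v (.cij i j hij) * v (.ci j) = 0) ∧
      (v .cb - v (.cij i j hij) * v (.cbi j) - v (.cij j i hij.symm) * v (.cbi i) + v (.cbi i) * v (.cbi j) = 0) := by
    intro i j hij
    have key := coeffs_zero h ![some (Sum.inl 0), some (Sum.inr (.xi j, 0)), some (Sum.inr (.x2, 0)), none]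
      (by intro x y; fin_cases x <;> fin_cases y <;> simp)
      ![v .a + v (.ci i) + v (.cbi i) + v (.ci j) + v (.cbi j) - v (.cij i j hij) - v (.cij j i hij.symm),
        sOf v j * v (.ci j) + v (.ci i) * v (.cij i j hij) + v (.cbi i) * v (.ci j) - v .c -
          v (.cij i j hij) * v (.ci j),
        v .cb - v (.cij i j hij) * v (.cbi j) - v (.cij j i hij.symm) * v (.cbi i) + v (.cbi i) * v (.cbi j),
        v .c * (v (.cij i j hij) + v (.cij j i hij.symm) - sOf v j - v (.ci i) - v (.cbi i))] (by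
      simp only [Fin.sum_univ_four, Matrix.cons_val_zero, Matrix.cons_val_one, Matrix.cons_val,
        cmon, map_add, map_sub, map_mul, map_pow, sOf]
      linear_combination (κ (v (.cij j i hij.symm)) - π (X (.xi j))) * crel1 (v := v) i - π (X .x2) * crel2 (v := v) j +
        (κ (v (.cij i j hij)) - (κ (v .a) + κ (v (.ci j)) + κ (v (.cbi j))) - κ (v (.cbi i))) * crel1 (v := v) j +
        (π (X .x2) - κ (v (.ci i))) * crel3 (v := v) i j hij)
    exact ⟨key 0, key 1, key 2⟩
  intro p hp
  rcases hp with ((⟨⟨⟨i, j⟩, hij⟩, rfl⟩ | ⟨⟨⟨i, j⟩, hij⟩, rfl⟩) | ⟨⟨⟨i, j⟩, hij⟩, rfl⟩) | ⟨⟨⟨i, j, k⟩, hij, hjk, hik⟩, rfl⟩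
  · obtain ⟨e1, -, -⟩ := hA i j hij
    simp only [map_add, map_sub, eval_X]
    linear_combination -e1
  · obtain ⟨e1, e2, -⟩ := hA i j hij
    simp only [map_add, map_sub, map_mul, eval_X]
    simp only [sOf] at e2
    linear_combination e2 - v (.ci j) * e1
  · obtain ⟨-, -, e3⟩ := hA i j hij
    simp only [map_add, map_sub, map_mul, eval_X]
    linear_combination -e3
  · have key := coeffs_zero h ![some (Sum.inl 0), some (Sum.inr (.xi k, 0)), some (Sum.inr (.xi i, 0)), none]
      (by
        intro x y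
        fin_cases x <;> fin_cases y <;> simp [hik, Ne.symm hik])
      ![sOf v k + v (.cij i j hij) + v (.cij j i hij.symm) - sOf v i - v (.cij j k hjk) - v (.cij k j hjk.symm),
        sOf v k * v (.ci k) + v (.cij i j hij) * v (.cij j k hjk) + v (.cij j i hij.symm) * v (.cij i k hik) -
          v .c - v (.cij j k hjk) * v (.cij i k hik),
        v (.cij j i hij.symm) * v (.cij k i hik.symm) - sOf v i * v (.ci i) -
          v (.cij j k hjk) * v (.cij k i hik.symm) - v (.cij k j hjk.symm) * v (.cij j i hij.symm) + v .c,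
        -(v .c) * (sOf v k + v (.cij i j hij) + v (.cij j i hij.symm) - sOf v i - v (.cij j k hjk) -
          v (.cij k j hjk.symm))] (by
      simp only [Fin.sum_univ_four, Matrix.cons_val_zero, Matrix.cons_val_one, Matrix.cons_val,
        cmon, map_add, map_sub, map_mul, map_pow, map_neg, sOf]
      linear_combination (κ (v (.cij k j hjk.symm)) - π (X (.xi k))) * crel3 (v := v) i j hij -
        π (X .x2) * crel2 (v := v) k - (κ (v .a) + κ (v (.ci k)) + κ (v (.cbi k))) * crel1 (v := v) k +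
        (π (X (.xi i)) - κ (v (.cij i j hij))) * crel3 (v := v) j k hjk +
        (κ (v (.cij j k hjk)) - κ (v (.cij j i hij.symm))) * crel3 (v := v) i k hik +
        π (X .x2) * crel2 (v := v) i + (κ (v .a) + κ (v (.ci i)) + κ (v (.cbi i))) * crel1 (v := v) i)
    have e2 := key 1
    simp only [Matrix.cons_val_one, Matrix.cons_val_zero, sOf] at e2
    simp only [map_add, map_sub, map_mul, eval_X]
    linear_combination e2

end

end Groth.Agent.Lib.CurveU16
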