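import Groth.Agent.Lib.CurveU16.UIso
import Groth.Agent.S18247
import Mathlib.RingTheory.PowerSeries.WellKnown
import Mathlib.Algebra.DirectSum.Module

/-!
A homogeneous basis of the coordinate ring of `U_n` over `ℤ`.
-/

namespace Groth.Agent.Lib.CurveU16

open W4c5m1nsnscurves MvPolynomial

variable {m : ℕ}

lemma ugen_mem (g : UGen m) : ugen ℤ m g ∈ upiece ℤ m (uwt g) :=
  GrQuot.mk_mem_quot _ _ (show X g ∈ weightedHomogeneousSubmodule ℤ uwt (uwt g) from
    isWeightedHomogeneous_X ℤ uwt g)

lemma one_mem_upiece : (1 : URing ℤ m) ∈ upiece ℤ m 0 := by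
  rw [← map_one (Ideal.Quotient.mk (Ideal.span (URel ℤ m)))]
  exact GrQuot.mk_mem_quot _ _ (show (1 : MvPolynomial (UGen m) ℤ) ∈ weightedHomogeneousSubmodule ℤ uwt 0 from
    isWeightedHomogeneous_one ℤ uwt)

lemma mul_mem_upiece {x y : URing ℤ m} {a b : ℕ} (hx : x ∈ upiece ℤ m a) (hy : y ∈ upiece ℤ m b) :
    x * y ∈ upiece ℤ m (a + b) := by
  obtain ⟨p, hp, rfl⟩ := (GrQuot.mem_quot_iff _ _ _ _).1 hx
  obtain ⟨q, hq, rfl⟩ := (GrQuot.mem_quot_iff _ _ _ _).1 hy
  rw [← map_mul]
  exact GrQuot.mk_mem_quot _ _ (show p * q ∈ weightedHomogeneousSubmodule ℤ uwt (a + b) from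
    IsWeightedHomogeneous.mul hp hq)

lemma pow_mem_upiece {x : URing ℤ m} (hx : x ∈ upiece ℤ m 1) : ∀ k, x ^ k ∈ upiece ℤ m k
  | 0 => by simpa using one_mem_upiece
  | k + 1 => by rw [pow_succ]; exact mul_mem_upiece (pow_mem_upiece hx k) hx

lemma uwt_castSucc (g : UGen m) : uwt (UGen.castSucc g) = uwt g := by
  cases g <;> rfl

lemma uincl_mem {x : URing ℤ m} {d : ℕ} (hx : x ∈ upiece ℤ m d) :
    uincl ℤ m x ∈ upiece ℤ (m + 1) d := by
  obtain ⟨p, hp, rfl⟩ := (GrQuot.mem_quot_iff _ _ _ _).1 hx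
  show Ideal.Quotient.mk _ (rename UGen.castSucc p) ∈ _
  refine GrQuot.mk_mem_quot _ _ ?_
  rw [p.as_sum, map_sum]
  refine Submodule.sum_mem _ fun s hs => ?_
  rw [rename_monomial]
  refine (mem_weightedHomogeneousSubmodule _ _ _ _).2 (isWeightedHomogeneous_monomial uwt _ _ ?_)
  rw [← hp (mem_support_iff.1 hs), Finsupp.weight_apply, Finsupp.weight_apply,
    Finsupp.sum_mapDomain_index (by simp) (by intros; simp [add_mul])]
  simp [uwt_castSucc]

lemma toU_mem (y : CVar m) : toU ℤ m y ∈ upiece ℤ (m + 1) 1 := by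
  cases y with
  | x2 => exact ugen_mem (m := m + 1) (.ci (Fin.last m))
  | x3 =>
    have h1 : ugen ℤ (m + 1) .a ∈ upiece ℤ (m + 1) 1 := ugen_mem (m := m + 1) .a
    have h2 : ugen ℤ (m + 1) (.ci (Fin.last m)) ∈ upiece ℤ (m + 1) 1 := ugen_mem (m := m + 1) (.ci (Fin.last m))
    have h3 : ugen ℤ (m + 1) (.cbi (Fin.last m)) ∈ upiece ℤ (m + 1) 1 := ugen_mem (m := m + 1) (.cbi (Fin.last m))
    exact add_mem (add_mem h1 h2) h3
  | xi i => exact ugen_mem (m := m + 1) (.cij i.castSucc (Fin.last m) (Fin.castSucc_lt_last i).ne)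

/-- weight of a monomial of the curve -/
def cwt : Option (ℕ ⊕ (CVar m × ℕ)) → ℕ
  | none => 0
  | some (Sum.inl k) => k + 2
  | some (Sum.inr (_, k)) => k + 1

/-- the variables of the curve as an option type -/
def cvarEquiv : CVar m ≃ Option (Option (Fin m)) where
  toFun
    | .x2 => none
    | .x3 => some none
    | .xi i => some (some i)
  invFun
    | none => .x2
    | some none => .x3
    | some (some i) => .xi i
  left_inv y := by cases y <;> rfl
  right_inv y := by rcases y with _ | _ | i <;> rfl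

instance : Fintype (CVar m) := Fintype.ofEquiv _ cvarEquiv.symm

lemma card_cvar : Fintype.card (CVar m) = m + 2 := by
  rw [Fintype.card_congr cvarEquiv]
  simp

/-- the number of monomials of given weight -/
def ccount (m : ℕ) : ℕ → ℕ
  | 0 => 1
  | 1 => m + 2
  | _ + 2 => m + 3

lemma exists_cwt_finset (q : ℕ) : ∃ t : Finset (Option (ℕ ⊕ (CVar m × ℕ))),
    (∀ j, j ∈ t ↔ cwt j = q) ∧ t.card = ccount m q := by
  classical
  match q with
  | 0 =>
    refine ⟨{none}, fun j => ?_, rfl⟩
    rcases j with _ | k | ⟨y, k⟩ <;> simp [cwt]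
  | 1 =>
    refine ⟨Finset.univ.image fun y => some (Sum.inr (y, 0)), fun j => ?_, ?_⟩
    · rcases j with _ | k | ⟨y, k⟩ <;> simp [cwt, eq_comm]
    · rw [Finset.card_image_of_injective _ (fun a b h => by simpa using h), Finset.card_univ, card_cvar]
      rfl
  | n + 2 =>
    refine ⟨insert (some (Sum.inl n)) (Finset.univ.image fun y => some (Sum.inr (y, n + 1))), fun j => ?_, ?_⟩
    · rcases j with _ | k | ⟨y, k⟩ <;> simp [cwt, eq_comm]
    · rw [Finset.card_insert_of_notMem (by simp),
        Finset.card_image_of_injective _ (fun a b h => by simpa using h), Finset.card_univ, card_cvar]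
      rfl

lemma ccount_series (q : ℕ) : (ccount m q : ℤ) = PowerSeries.coeff q
    ((PowerSeries.mk fun _ => (1 : ℤ)) *
      (1 + PowerSeries.C ((m + 1 : ℕ) : ℤ) * PowerSeries.X + PowerSeries.X ^ 2)) := by
  rw [mul_add, mul_add, mul_one,
    ← mul_assoc (PowerSeries.mk fun _ => (1 : ℤ)) (PowerSeries.C ((m + 1 : ℕ) : ℤ)) PowerSeries.X]
  match q with
  | 0 => simp [ccount, pow_two]
  | 1 =>
    rw [pow_two, ← mul_assoc]
    simp only [map_add, PowerSeries.coeff_succ_mul_X, PowerSeries.coeff_mk,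
      PowerSeries.coeff_zero_mul_X, PowerSeries.coeff_mul_C]
    simp [ccount]; ring
  | n + 2 =>
    rw [pow_two, ← mul_assoc]
    simp only [map_add, PowerSeries.coeff_succ_mul_X, PowerSeries.coeff_mk, PowerSeries.coeff_mul_C]
    simp [ccount]; ring

/-- a homogeneous basis with the predicted numbers -/
def HasHilb (m : ℕ) : Prop :=
  ∃ (ι : Type) (b : Module.Basis ι ℤ (URing ℤ m)) (w : ι → ℕ),
    (∀ i, b i ∈ upiece ℤ m (w i)) ∧
    ∀ d, ∃ s : Finset ι, (∀ i, i ∈ s ↔ w i = d) ∧ (s.card : ℤ) = PowerSeries.coeff d (uhilb m)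

theorem hasHilb_two : HasHilb 2 := by
  classical
  let σ : Fin 6 → UGen 2 := ![.a, .ci 0, .cbi 0, .ci 1, .cbi 1, .cij 0 1 Fin.zero_ne_one]
  let F : MvPolynomial (Fin 6) ℤ →ₐ[ℤ] URing ℤ 2 := aeval fun i => ugen ℤ 2 (σ i)
  have hF : Function.Bijective F := by
    have h := Groth.Agent.S18247.result
    have e : (fun i => ugen ℤ 2 (σ i)) = ![ugen ℤ 2 .a, ugen ℤ 2 (.ci 0), ugen ℤ 2 (.cbi 0),
        ugen ℤ 2 (.ci 1), ugen ℤ 2 (.cbi 1), ugen ℤ 2 (.cij 0 1 Fin.zero_ne_one)] := by
      funext i; fin_cases i <;> rfl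
    simp only [F, e]; exact h
  have hσ : ∀ i, uwt (σ i) = 1 := by intro i; fin_cases i <;> rfl
  refine ⟨Fin 6 →₀ ℕ, (MvPolynomial.basisMonomials (Fin 6) ℤ).map (LinearEquiv.ofBijective F.toLinearMap hF),
    fun s => ∑ i, s i, fun s => ?_, fun d => ⟨Finset.finsuppAntidiag Finset.univ d, fun s => ?_, ?_⟩⟩
  · have : F (monomial s 1) = Ideal.Quotient.mk _ (rename σ (monomial s 1)) := by
      have e : F = (Ideal.Quotient.mkₐ ℤ (Ideal.span (URel ℤ 2))).comp (rename σ) := by
        apply MvPolynomial.algHom_ext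
        intro i
        simp only [F, AlgHom.comp_apply, rename_X, aeval_X]
        rfl
      rw [e]; rfl
    simp only [Module.Basis.map_apply, coe_basisMonomials, LinearEquiv.ofBijective_apply,
      AlgHom.toLinearMap_apply, this, rename_monomial]
    refine GrQuot.mk_mem_quot _ _ ((mem_weightedHomogeneousSubmodule _ _ _ _).2
      (isWeightedHomogeneous_monomial uwt _ _ ?_))
    rw [Finsupp.weight_apply, Finsupp.sum_mapDomain_index (by simp) (by intros; simp [add_mul]),
      Finsupp.sum_fintype _ _ (by simp)]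
    simp [hσ]
  · simp
  · have h1 : uhilb 2 = ∏ _i : Fin 6, (PowerSeries.mk fun _ => (1 : ℤ)) := by simp [uhilb]
    rw [h1, PowerSeries.coeff_prod]
    simp

theorem hasHilb_succ (hm : 2 ≤ m) (h : HasHilb m) : HasHilb (m + 1) := by
  classical
  obtain ⟨ι, bU, w, hw, hcount⟩ := h
  obtain ⟨h1, h2⟩ := cmon_basis_of_rels (by omega) (ugen ℤ m) (rels_ugen ℤ m)
  obtain ⟨e, heC, heX⟩ := curve_iso ℤ m (by omega)
  let bC := Module.Basis.mk h1 h2.ge
  let bT := (bU.smulTower bC).map e.toAddEquiv.toIntLinearEquiv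
  have hbT : ∀ i j, bT (i, j) = uincl ℤ m (bU i) * e (cmon (URing ℤ m) m (ugen ℤ m) j) := by
    intro i j
    show e ((bU.smulTower bC) (i, j)) = _
    rw [Module.Basis.smulTower_apply, Module.Basis.mk_apply]
    show e (bU i • cmon (URing ℤ m) m (ugen ℤ m) j) = _
    rw [show bU i • cmon (URing ℤ m) m (ugen ℤ m) j =
      algebraMap (URing ℤ m) (CurveAlg (URing ℤ m) m (ugen ℤ m)) (bU i) * cmon (URing ℤ m) m (ugen ℤ m) j from
        Algebra.smul_def (R := URing ℤ m) (A := CurveAlg (URing ℤ m) m (ugen ℤ m)) (bU i) _, map_mul, heC]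
  have hmon : ∀ j, e (cmon (URing ℤ m) m (ugen ℤ m) j) ∈ upiece ℤ (m + 1) (cwt j) := by
    intro j
    rcases j with _ | k | ⟨y, k⟩
    · simpa [cmon, cwt] using one_mem_upiece
    · simp only [cmon, cwt, map_mul, map_pow, heX]
      exact mul_mem_upiece (a := k + 1) (b := 1) (pow_mem_upiece (toU_mem _) _) (toU_mem _)
    · simp only [cmon, cwt, map_pow, heX]
      exact pow_mem_upiece (toU_mem _) _
  refine ⟨_, bT, fun p => w p.1 + cwt p.2, fun p => ?_, fun d => ?_⟩
  · rw [show p = (p.1, p.2) from rfl, hbT]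
    exact mul_mem_upiece (uincl_mem (hw _)) (hmon _)
  · choose s hs hscard using hcount
    choose t ht htcard using exists_cwt_finset (m := m)
    refine ⟨(Finset.HasAntidiagonal.antidiagonal d).biUnion fun pq => s pq.1 ×ˢ t pq.2, fun p => ?_, ?_⟩
    · simp only [Finset.mem_biUnion, Finset.HasAntidiagonal.mem_antidiagonal, Finset.mem_product, hs, ht]
      exact ⟨fun ⟨pq, h, h1, h2⟩ => by omega, fun h => ⟨(w p.1, cwt p.2), h, rfl, rfl⟩⟩
    · rw [Finset.card_biUnion]
      · have hrec : uhilb (m + 1) = uhilb m * ((PowerSeries.mk fun _ => (1 : ℤ)) *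
            (1 + PowerSeries.C ((m + 1 : ℕ) : ℤ) * PowerSeries.X + PowerSeries.X ^ 2)) := by
          simp only [uhilb]
          rw [Finset.prod_Icc_succ_top (by omega : 3 ≤ m + 1)]
          ring
        rw [hrec, PowerSeries.coeff_mul]
        push_cast
        refine Finset.sum_congr rfl fun pq _ => ?_
        rw [Finset.card_product, Nat.cast_mul, hscard, htcard, ccount_series]
        push_cast
        ring
      · intro a _ b _ hab
        rw [Function.onFun, Finset.disjoint_left]
        intro p hpa hpb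
        simp only [Finset.mem_product, hs, ht] at hpa hpb
        exact hab (Prod.ext (hpa.1.symm.trans hpb.1) (hpa.2.symm.trans hpb.2))

theorem hasHilb : ∀ m, 2 ≤ m → HasHilb m := by
  intro m hm
  induction m, hm using Nat.le_induction with
  | base => exact hasHilb_two
  | succ n hn ih => exact hasHilb_succ hn ih

/-- the grading as a map to polynomials -/
theorem exists_tau (m : ℕ) : ∃ τ : URing ℤ m →+* Polynomial (URing ℤ m),
    ∀ d, ∀ x ∈ upiece ℤ m d, τ x = Polynomial.monomial d x := by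
  let u : UGen m → Polynomial (URing ℤ m) := fun g => Polynomial.monomial (uwt g) (ugen ℤ m g)
  have key : ∀ (d : ℕ) (p : MvPolynomial (UGen m) ℤ), IsWeightedHomogeneous uwt p d →
      aeval u p = Polynomial.monomial d (Ideal.Quotient.mk (Ideal.span (URel ℤ m)) p) := by
    intro d p hp
    rw [p.as_sum, map_sum, map_sum, map_sum]
    refine Finset.sum_congr rfl fun s hs => ?_
    have hs' := hp (mem_support_iff.1 hs)
    have e : ∀ (s : UGen m →₀ ℕ), (s.prod fun g k => u g ^ k) =
        Polynomial.monomial (Finsupp.weight uwt s)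
          (Ideal.Quotient.mk (Ideal.span (URel ℤ m)) (monomial s 1)) := by
      intro s
      induction s using Finsupp.induction with
      | zero => simp
      | single_add g k s hg hk ih =>
        rw [Finsupp.prod_add_index' (by simp) (by intros; rw [pow_add]), ih,
          Finsupp.prod_single_index (by simp), map_add]
        simp only [Finsupp.weight_apply]
        rw [Finsupp.sum_single_index (by simp)]
        simp only [u, Polynomial.monomial_pow, Polynomial.monomial_mul_monomial, smul_eq_mul]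
        congr 1
        · ring
        · rw [show (monomial (Finsupp.single g k + s) (1 : ℤ) : MvPolynomial (UGen m) ℤ) = X g ^ k * monomial s 1 by
            rw [X_pow_eq_monomial, monomial_mul, one_mul], map_mul, map_pow]
          rfl
    rw [aeval_monomial, e, hs']
    conv_rhs => rw [show monomial s (coeff s p) = C (coeff s p) * monomial s 1 by
      rw [C_mul_monomial, mul_one], map_mul]
    rw [Polynomial.algebraMap_apply, Polynomial.C_mul_monomial]
    rfl
  have hker : Ideal.span (URel ℤ m) ≤ RingHom.ker (aeval (R := ℤ) u) := by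
    refine Ideal.span_le.2 ?_
    intro p hp
    show aeval u p = 0
    have hX : ∀ g : UGen m, IsWeightedHomogeneous uwt (X g : MvPolynomial (UGen m) ℤ) (uwt g) :=
      isWeightedHomogeneous_X ℤ uwt
    have hsub : ∀ {p q : MvPolynomial (UGen m) ℤ} {d : ℕ}, IsWeightedHomogeneous uwt p d →
        IsWeightedHomogeneous uwt q d → IsWeightedHomogeneous uwt (p - q) d := fun {p q d} hp hq =>
      (weightedHomogeneousSubmodule ℤ uwt d).sub_mem hp hq
    have hX1 : ∀ g : UGen m, uwt g = 1 → IsWeightedHomogeneous uwt (X g : MvPolynomial (UGen m) ℤ) 1 :=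
      fun g hg => hg ▸ hX g
    have hX2 : ∀ g : UGen m, uwt g = 2 → IsWeightedHomogeneous uwt (X g : MvPolynomial (UGen m) ℤ) 2 :=
      fun g hg => hg ▸ hX g
    have hM : ∀ {p q : MvPolynomial (UGen m) ℤ}, IsWeightedHomogeneous uwt p 1 →
        IsWeightedHomogeneous uwt q 1 → IsWeightedHomogeneous uwt (p * q) 2 := fun hp hq => hp.mul hq
    have hd : ∃ d, IsWeightedHomogeneous uwt p d := by
      rcases hp with ((⟨q, rfl⟩ | ⟨q, rfl⟩) | ⟨q, rfl⟩) | ⟨q, rfl⟩
      · refine ⟨1, ?_⟩
        repeat' (first | refine hX1 _ rfl | refine hsub ?_ ?_ | refine IsWeightedHomogeneous.add ?_ ?_)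
      · refine ⟨2, ?_⟩
        repeat' (first | refine hX2 _ rfl | refine hX1 _ rfl | refine hM ?_ ?_ | refine hsub ?_ ?_ |
          refine IsWeightedHomogeneous.add ?_ ?_)
      · refine ⟨2, ?_⟩
        repeat' (first | refine hX2 _ rfl | refine hX1 _ rfl | refine hM ?_ ?_ | refine hsub ?_ ?_ |
          refine IsWeightedHomogeneous.add ?_ ?_)
      · refine ⟨2, ?_⟩
        repeat' (first | refine hX2 _ rfl | refine hX1 _ rfl | refine hM ?_ ?_ | refine hsub ?_ ?_ |
          refine IsWeightedHomogeneous.add ?_ ?_)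
    obtain ⟨d, hd⟩ := hd
    rw [key d p hd, Ideal.Quotient.eq_zero_iff_mem.2 (Ideal.subset_span hp), map_zero]
  refine ⟨Ideal.Quotient.lift _ (aeval u).toRingHom (fun p hp => hker hp), fun d x hx => ?_⟩
  obtain ⟨p, hp, rfl⟩ := (GrQuot.mem_quot_iff _ _ _ _).1 hx
  exact key d p hp

theorem main (m : ℕ) (hm : 2 ≤ m) :
    Module.Free ℤ (URing ℤ m) ∧ DirectSum.IsInternal (upiece ℤ m) ∧
      ∀ d : ℕ, (Module.finrank ℤ (upiece ℤ m d) : ℤ) = PowerSeries.coeff d (uhilb m) := by
  classical
  obtain ⟨ι, b, w, hw, hcount⟩ := hasHilb m hm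
  obtain ⟨τ, hτ⟩ := exists_tau m
  refine ⟨Module.Free.of_basis b, ?_, fun d => ?_⟩
  · constructor
    · intro f g hfg
      have h : ∀ (f : DirectSum ℕ fun d => upiece ℤ m d) (d : ℕ),
          ((τ (DirectSum.coeAddMonoidHom (upiece ℤ m) f)).coeff d) = (f d : URing ℤ m) := by
        intro f d
        induction f using DirectSum.induction_on with
        | zero => simp
        | of i x =>
          rw [DirectSum.coeAddMonoidHom_of, hτ i _ x.2, Polynomial.coeff_monomial]
          by_cases h : i = d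
          · subst h; simp
          · rw [if_neg h, DirectSum.of_eq_of_ne _ _ _ (Ne.symm h)]; rfl
        | add f g hf hg => simp [hf, hg]
      apply DFinsupp.ext
      intro d
      exact Subtype.ext (by rw [← h f d, ← h g d, hfg])
    · intro x
      suffices x ∈ AddMonoidHom.mrange (DirectSum.coeAddMonoidHom (upiece ℤ m)) from AddMonoidHom.mem_mrange.1 this
      rw [← b.linearCombination_repr x, Finsupp.linearCombination_apply, Finsupp.sum]
      refine sum_mem fun i _ => ?_
      exact ⟨DirectSum.of (fun d => upiece ℤ m d) (w i) ⟨_, Submodule.smul_mem _ _ (hw i)⟩,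
        DirectSum.coeAddMonoidHom_of _ _ _⟩
  · obtain ⟨s, hs, hcard⟩ := hcount d
    have hspan : upiece ℤ m d = Submodule.span ℤ (Set.range fun i : s => b i) := by
      refine le_antisymm (fun x hx => ?_) (Submodule.span_le.2 ?_)
      · have h1 := congrArg (fun p => Polynomial.coeff p d) (hτ d x hx)
        simp only [Polynomial.coeff_monomial, if_pos] at h1
        rw [← h1]
        conv => arg 2; rw [← b.linearCombination_repr x]
        rw [Finsupp.linearCombination_apply, Finsupp.sum, map_sum, Polynomial.finsetSum_coeff]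
        refine Submodule.sum_mem _ fun i _ => ?_
        rw [zsmul_eq_mul, map_mul, map_intCast, hτ _ _ (hw i), ← zsmul_eq_mul, Polynomial.coeff_smul,
          Polynomial.coeff_monomial]
        by_cases h : w i = d
        · rw [if_pos h]
          exact Submodule.smul_mem _ _ (Submodule.subset_span ⟨⟨i, (hs i).2 h⟩, rfl⟩)
        · rw [if_neg h, smul_zero]
          exact Submodule.zero_mem _
      · rintro _ ⟨⟨i, hi⟩, rfl⟩
        exact (hs i).1 hi ▸ hw i
    have hfr := finrank_span_eq_card (b.linearIndependent.comp (fun i : s => (i : ι)) Subtype.val_injective)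
    simp only [Function.comp_def] at hfr
    rw [hspan, hfr, Fintype.card_coe]
    exact hcard

end Groth.Agent.Lib.CurveU16
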