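import Groth.Agent.Lib.CurveU16.Basis

/-!
The monomials `1, x₂^k x₃, y^k` form a basis of the affine curve over a point of `U_n`.
-/

universe u v

namespace Groth.Agent.Lib.CurveU16

open W4c5m1nsnscurves
open scoped Polynomial

variable {R : Type u} [CommRing R] {m : ℕ}

/-- index of a monomial of the bigger curve -/
def epsIdx : Option (ℕ ⊕ (CVar (m + 1) × ℕ)) → Option (ℕ ⊕ (CVar m × ℕ)) ⊕ ℕ
  | none => Sum.inl none
  | some (Sum.inl k) => Sum.inl (some (Sum.inl k))
  | some (Sum.inr (.x2, k)) => Sum.inl (some (Sum.inr (.x2, k)))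
  | some (Sum.inr (.x3, k)) => Sum.inl (some (Sum.inr (.x3, k)))
  | some (Sum.inr (.xi i, k)) =>
      Fin.lastCases (motive := fun _ => Option (ℕ ⊕ (CVar m × ℕ)) ⊕ ℕ) (Sum.inr k)
        (fun j => Sum.inl (some (Sum.inr (.xi j, k)))) i

/-- its inverse -/
def epsInv : Option (ℕ ⊕ (CVar m × ℕ)) ⊕ ℕ → Option (ℕ ⊕ (CVar (m + 1) × ℕ))
  | Sum.inl none => none
  | Sum.inl (some (Sum.inl k)) => some (Sum.inl k)
  | Sum.inl (some (Sum.inr (.x2, k))) => some (Sum.inr (.x2, k))
  | Sum.inl (some (Sum.inr (.x3, k))) => some (Sum.inr (.x3, k))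
  | Sum.inl (some (Sum.inr (.xi j, k))) => some (Sum.inr (.xi j.castSucc, k))
  | Sum.inr k => some (Sum.inr (.xi (Fin.last m), k))

lemma epsInv_eps (x : Option (ℕ ⊕ (CVar (m + 1) × ℕ))) : epsInv (epsIdx x) = x := by
  rcases x with _ | k | ⟨y, k⟩ <;> try rfl
  cases y with
  | x2 => rfl
  | x3 => rfl
  | xi i => induction i using Fin.lastCases <;> simp [epsIdx, epsInv]

lemma eps_epsInv (x : Option (ℕ ⊕ (CVar m × ℕ)) ⊕ ℕ) : epsIdx (epsInv x) = x := by
  rcases x with (_ | k | ⟨y, k⟩) | k <;> try rfl
  · cases y with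
    | x2 => rfl
    | x3 => rfl
    | xi i => simp [epsIdx, epsInv]
  · simp [epsIdx, epsInv]

/-- a basis statement -/
def IsMonBasis (v : UGen m → R) (d : R) : Prop :=
  LinearIndependent R (cmonP v d) ∧ Submodule.span R (Set.range (cmonP v d)) = ⊤

theorem isMonBasis_succ (v : UGen (m + 1) → R) (d : R) (h : Rels v) (hd : d = dOf v (Fin.last m))
    (ih : IsMonBasis (v ∘ UGen.castSucc) d) : IsMonBasis v d := by
  classical
  obtain ⟨φ, D, hφ, hDX, hD⟩ := exists_lastData v d h hd
  have hne : ∀ i : Fin m, i.castSucc ≠ Fin.last m := fun i => (Fin.castSucc_lt_last i).ne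
  let b := Module.Basis.mk ih.1 ih.2.ge
  let bA := adjBasis φ D hD b
  -- the map to the model
  let g : CVar (m + 1) → Adj φ D := fun
    | .x2 => Ideal.Quotient.mk _ (Polynomial.C (Ideal.Quotient.mk _ (MvPolynomial.X .x2)))
    | .x3 => Ideal.Quotient.mk _ (Polynomial.C (Ideal.Quotient.mk _ (MvPolynomial.X .x3)))
    | .xi i => Fin.lastCases (motive := fun _ => Adj φ D) (Ideal.Quotient.mk _ Polynomial.X)
        (fun j => Ideal.Quotient.mk _ (Polynomial.C (Ideal.Quotient.mk _ (MvPolynomial.X (.xi j))))) i
  let ι₀ : CPlus (v ∘ UGen.castSucc) d →+* Adj φ D :=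
    (Ideal.Quotient.mk (Ideal.span (adjRel φ D))).comp Polynomial.C
  have hι : ∀ r : R, ι₀ (algebraMap R _ r) = algebraMap R (Adj φ D) r := fun r => rfl
  have hadj : ∀ f : CPlus (v ∘ UGen.castSucc) d, Ideal.Quotient.mk (Ideal.span (adjRel φ D)) Polynomial.X * ι₀ f =
      algebraMap R (Adj φ D) (φ f) * Ideal.Quotient.mk (Ideal.span (adjRel φ D)) Polynomial.X + ι₀ (D f) := by
    intro f
    have : Ideal.Quotient.mk (Ideal.span (adjRel φ D))
        (Polynomial.C (f - algebraMap R _ (φ f)) * Polynomial.X - Polynomial.C (D f)) = 0 :=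
      Ideal.Quotient.eq_zero_iff_mem.2 (Ideal.subset_span ⟨f, rfl⟩)
    simp only [map_sub, map_mul] at this
    rw [← hι]
    simp only [ι₀, RingHom.comp_apply]
    linear_combination this
  have a2 := hadj (Ideal.Quotient.mk _ (MvPolynomial.X .x2))
  have a3 := hadj (Ideal.Quotient.mk _ (MvPolynomial.X .x3))
  have ai := fun j => hadj (Ideal.Quotient.mk _ (MvPolynomial.X (.xi j)))
  simp only [hφ, hDX, deltaLast, ptLast, sOf, map_add, map_sub, map_mul, mkP_C, hι] at a2 a3 ai
  have hP : CRelP v d ⊆ RingHom.ker (MvPolynomial.aeval (R := R) g) := by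
    intro p hp
    show MvPolynomial.aeval (R := R) g p = 0
    rcases Set.mem_insert_iff.1 hp with rfl | ((⟨i, rfl⟩ | ⟨i, rfl⟩) | ⟨⟨⟨i, j⟩, hij⟩, rfl⟩)
    · have e := congrArg ι₀ (relC (v ∘ UGen.castSucc) d)
      simp only [map_add, map_sub, map_mul, map_pow, hι, Function.comp_apply, UGen.castSucc] at e
      simp only [cubicP, map_add, map_sub, map_mul, map_pow, MvPolynomial.aeval_X, MvPolynomial.aeval_C, g]
      simp only [ι₀, RingHom.comp_apply] at e
      linear_combination e
    · induction i using Fin.lastCases with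
      | last =>
        simp only [map_add, map_sub, map_mul, MvPolynomial.aeval_X, MvPolynomial.aeval_C, g, Fin.lastCases_last]
        simp only [ι₀, RingHom.comp_apply] at a2
        linear_combination a2
      | cast i =>
        have e := congrArg ι₀ (rel1 (v ∘ UGen.castSucc) d i)
        simp only [map_add, map_sub, map_mul, hι, Function.comp_apply, UGen.castSucc] at e
        simp only [map_add, map_sub, map_mul, MvPolynomial.aeval_X, MvPolynomial.aeval_C, g,
          Fin.lastCases_castSucc]
        simp only [ι₀, RingHom.comp_apply] at e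
        linear_combination e
    · induction i using Fin.lastCases with
      | last =>
        simp only [map_add, map_sub, map_mul, MvPolynomial.aeval_X, MvPolynomial.aeval_C, g, Fin.lastCases_last]
        simp only [ι₀, RingHom.comp_apply] at a3
        linear_combination a3
      | cast i =>
        have e := congrArg ι₀ (rel2 (v ∘ UGen.castSucc) d i)
        simp only [map_add, map_sub, map_mul, hι, Function.comp_apply, UGen.castSucc] at e
        simp only [map_add, map_sub, map_mul, MvPolynomial.aeval_X, MvPolynomial.aeval_C, g,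
          Fin.lastCases_castSucc]
        simp only [ι₀, RingHom.comp_apply] at e
        linear_combination e
    · induction i using Fin.lastCases with
      | last =>
        induction j using Fin.lastCases with
        | last => exact absurd rfl hij
        | cast j =>
          simp only [map_add, map_sub, map_mul, MvPolynomial.aeval_X, MvPolynomial.aeval_C, g,
            Fin.lastCases_last, Fin.lastCases_castSucc]
          have e := ai j
          simp only [ι₀, RingHom.comp_apply] at e
          linear_combination e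
      | cast i =>
        induction j using Fin.lastCases with
        | last =>
          simp only [map_add, map_sub, map_mul, MvPolynomial.aeval_X, MvPolynomial.aeval_C, g,
            Fin.lastCases_last, Fin.lastCases_castSucc]
          have e := ai i
          simp only [ι₀, RingHom.comp_apply] at e
          linear_combination e
        | cast j =>
          have e := congrArg ι₀ (rel3 (v ∘ UGen.castSucc) d i j (fun e => hij (by rw [e])))
          simp only [map_add, map_sub, map_mul, hι, Function.comp_apply, UGen.castSucc] at e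
          simp only [map_add, map_sub, map_mul, MvPolynomial.aeval_X, MvPolynomial.aeval_C, g,
            Fin.lastCases_castSucc]
          simp only [ι₀, RingHom.comp_apply] at e
          linear_combination e
  let F : CPlus v d →ₐ[R] Adj φ D :=
    Ideal.Quotient.liftₐ _ (MvPolynomial.aeval (R := R) g) fun p hp => (Ideal.span_le.2 hP : _) hp
  have hF : ∀ y, F (Ideal.Quotient.mk _ (MvPolynomial.X y)) = g y := fun y => MvPolynomial.aeval_X g y
  -- the map back
  let e₀ : CVar m → CPlus v d := fun
    | .x2 => Ideal.Quotient.mk _ (MvPolynomial.X .x2)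
    | .x3 => Ideal.Quotient.mk _ (MvPolynomial.X .x3)
    | .xi j => Ideal.Quotient.mk _ (MvPolynomial.X (.xi j.castSucc))
  have hQ : CRelP (v ∘ UGen.castSucc) d ⊆ RingHom.ker (MvPolynomial.aeval (R := R) e₀) := by
    intro p hp
    show MvPolynomial.aeval (R := R) e₀ p = 0
    rcases Set.mem_insert_iff.1 hp with rfl | ((⟨i, rfl⟩ | ⟨i, rfl⟩) | ⟨⟨⟨i, j⟩, hij⟩, rfl⟩)
    · simp only [cubicP, map_add, map_sub, map_mul, map_pow, MvPolynomial.aeval_X, MvPolynomial.aeval_C, e₀,
        Function.comp_apply, UGen.castSucc]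
      linear_combination relC v d
    · simp only [map_add, map_sub, map_mul, MvPolynomial.aeval_X, MvPolynomial.aeval_C, e₀,
        Function.comp_apply, UGen.castSucc]
      linear_combination rel1 v d i.castSucc
    · simp only [map_add, map_sub, map_mul, MvPolynomial.aeval_X, MvPolynomial.aeval_C, e₀,
        Function.comp_apply, UGen.castSucc]
      linear_combination rel2 v d i.castSucc
    · simp only [map_add, map_sub, map_mul, MvPolynomial.aeval_X, MvPolynomial.aeval_C, e₀,
        Function.comp_apply, UGen.castSucc]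
      linear_combination rel3 v d i.castSucc j.castSucc (fun e => hij (Fin.castSucc_injective _ e))
  let E : CPlus (v ∘ UGen.castSucc) d →ₐ[R] CPlus v d :=
    Ideal.Quotient.liftₐ _ (MvPolynomial.aeval (R := R) e₀) fun p hp => (Ideal.span_le.2 hQ : _) hp
  have hE : ∀ y, E (Ideal.Quotient.mk _ (MvPolynomial.X y)) = e₀ y := fun y => MvPolynomial.aeval_X e₀ y
  have hEC : ∀ r, E (algebraMap R _ r) = algebraMap R _ r := fun r => E.commutes r
  set xn : CPlus v d := Ideal.Quotient.mk _ (MvPolynomial.X (.xi (Fin.last m))) with hxn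
  have key : ∀ f, (E f - algebraMap R _ (φ f)) * xn = E (D f) := by
    intro f
    obtain ⟨p, rfl⟩ := Ideal.Quotient.mk_surjective f
    induction p using MvPolynomial.induction_on with
    | C r =>
      have hD1 : D (algebraMap R _ r) = 0 := by
        rw [Algebra.algebraMap_eq_smul_one, map_smul, D_one φ D hD, smul_zero]
      rw [show (Ideal.Quotient.mk (Ideal.span (CRelP (v ∘ UGen.castSucc) d)) (MvPolynomial.C r)) =
          algebraMap R (CPlus (v ∘ UGen.castSucc) d) r from rfl, hEC, AlgHom.commutes, hD1, map_zero]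
      simp
    | add p q hp hq => simp only [map_add]; linear_combination hp + hq
    | mul_X p y hp =>
      have hsm : ∀ (r : R) (z : CPlus (v ∘ UGen.castSucc) d), E (r • z) = algebraMap R (CPlus v d) r * E z := fun r z => by
        rw [map_smul]; exact Algebra.smul_def (A := CPlus v d) _ _
      rw [map_mul, hD, map_add E, map_mul E, map_mul E, hsm, map_mul φ, map_mul, hφ, hDX]
      have hy : (e₀ y - algebraMap R _ (ptLast v y)) * xn = E (deltaLast v d y) := by
        cases y with
        | x2 =>
          simp only [deltaLast, map_add, map_sub, map_mul, mkP_C, hE, hEC, e₀, ptLast, hxn]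
          linear_combination rel1 v d (Fin.last m)
        | x3 =>
          simp only [deltaLast, map_add, map_sub, map_mul, mkP_C, hE, hEC, e₀, ptLast, hxn, sOf]
          linear_combination rel2 v d (Fin.last m)
        | xi i =>
          simp only [deltaLast, map_add, map_sub, map_mul, mkP_C, hE, hEC, e₀, ptLast, hxn]
          linear_combination rel3 v d i.castSucc (Fin.last m) (hne i)
      rw [hE]
      linear_combination (E (Ideal.Quotient.mk _ p)) * hy + (algebraMap R _ (ptLast v y)) * hp
  let G₀ : Polynomial (CPlus (v ∘ UGen.castSucc) d) →+* CPlus v d := Polynomial.eval₂RingHom E.toRingHom xn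
  have hG₀ : ∀ p ∈ Ideal.span (adjRel φ D), G₀ p = 0 := by
    intro p hp
    refine (Ideal.span_le.2 ?_ : _ ≤ RingHom.ker G₀) hp
    rintro _ ⟨f, rfl⟩
    show G₀ _ = 0
    simp only [G₀, map_sub, map_mul, Polynomial.coe_eval₂RingHom, Polynomial.eval₂_sub,
      Polynomial.eval₂_mul, Polynomial.eval₂_C, Polynomial.eval₂_X, AlgHom.toRingHom_eq_coe,
      RingHom.coe_coe, hEC, sub_eq_zero]
    exact key f
  let G : Adj φ D →+* CPlus v d := Ideal.Quotient.lift _ G₀ hG₀
  have hGC : ∀ f, G (Ideal.Quotient.mk _ (Polynomial.C f)) = E f := fun f => Polynomial.eval₂_C _ _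
  have hGX : G (Ideal.Quotient.mk _ Polynomial.X) = xn := Polynomial.eval₂_X _ _
  let G' : Adj φ D →ₐ[R] CPlus v d := AlgHom.mk' G (fun r x => by
    rw [Algebra.smul_def, Algebra.smul_def, map_mul]
    congr 1
    rw [← hι, ← hEC r]
    exact hGC _)
  have hGF : G'.comp F = AlgHom.id R _ := by
    refine Ideal.Quotient.algHom_ext _ (MvPolynomial.algHom_ext fun y => ?_)
    show G (F (Ideal.Quotient.mk _ (MvPolynomial.X y))) = Ideal.Quotient.mk _ (MvPolynomial.X y)
    rw [hF]
    cases y with
    | x2 => exact (hGC _).trans (hE _)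
    | x3 => exact (hGC _).trans (hE _)
    | xi i =>
      induction i using Fin.lastCases with
      | last => simp only [g, Fin.lastCases_last]; exact hGX
      | cast j => simp only [g, Fin.lastCases_castSucc]; exact (hGC _).trans (hE _)
  have hFb : ∀ x, F (cmonP v d x) = bA (epsIdx x) := by
    intro x
    rcases x with _ | k | ⟨y, k⟩
    · show F 1 = adjBasis φ D hD b (Sum.inl none)
      rw [adjBasis_inl, map_one, Module.Basis.mk_apply]
      simp [cmonP]
    · show F (Ideal.Quotient.mk _ _) = adjBasis φ D hD b (Sum.inl (some (Sum.inl k)))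
      rw [adjBasis_inl, Module.Basis.mk_apply]
      simp only [map_mul, map_pow, cmonP, hF, g]
    · cases y with
      | x2 =>
        show F (Ideal.Quotient.mk _ _) = adjBasis φ D hD b (Sum.inl (some (Sum.inr (CVar.x2, k))))
        rw [adjBasis_inl, Module.Basis.mk_apply]
        simp only [map_pow, cmonP, hF, g]
      | x3 =>
        show F (Ideal.Quotient.mk _ _) = adjBasis φ D hD b (Sum.inl (some (Sum.inr (CVar.x3, k))))
        rw [adjBasis_inl, Module.Basis.mk_apply]
        simp only [map_pow, cmonP, hF, g]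
      | xi i =>
        induction i using Fin.lastCases with
        | last =>
          simp only [epsIdx, cmonP, Fin.lastCases_last, map_pow, hF, g]
          rw [adjBasis_inr, map_pow]
        | cast j =>
          simp only [epsIdx, cmonP, Fin.lastCases_castSucc, map_pow, hF, g]
          rw [adjBasis_inl, Module.Basis.mk_apply]
          simp only [cmonP, map_pow]
  have heq : F.toLinearMap ∘ cmonP v d = bA ∘ epsIdx := funext hFb
  refine ⟨LinearIndependent.of_comp F.toLinearMap ?_, ?_⟩
  · rw [heq]
    exact bA.linearIndependent.comp _ (Function.LeftInverse.injective epsInv_eps)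
  · rw [eq_top_iff]
    intro z _
    have hz : z = G'.toLinearMap (F z) := (DFunLike.congr_fun hGF z).symm
    rw [hz]
    have htop : (⊤ : Submodule R (Adj φ D)) ≤
        (Submodule.span R (Set.range (cmonP v d))).comap G'.toLinearMap := by
      rw [← bA.span_eq, Submodule.span_le]
      rintro _ ⟨i, rfl⟩
      rw [SetLike.mem_coe, Submodule.mem_comap, AlgHom.toLinearMap_apply]
      rw [← eps_epsInv i, ← hFb]
      have := DFunLike.congr_fun hGF (cmonP v d (epsInv i))
      rw [AlgHom.comp_apply, AlgHom.id_apply] at this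
      rw [this]
      exact Submodule.subset_span ⟨_, rfl⟩
    exact htop Submodule.mem_top

/-- the variables of the three point curve -/
def e3 : Fin 2 → CVar 0
  | 0 => .x2
  | 1 => .x3

/-- its inverse -/
def e3inv : CVar 0 → Fin 2
  | .x2 => 0
  | .x3 => 1
  | .xi i => i.elim0

theorem isMonBasis_zero (v : UGen 0 → R) (d : R) : IsMonBasis v d := by
  classical
  obtain ⟨h1, h2⟩ := Groth.Agent.S18251.result R (v .a) (v .cb - v .c) (v .c) d
  have hF : Ideal.span (CRelP v d) ≤
      RingHom.ker (MvPolynomial.aeval (R := R) fun y => (Ideal.Quotient.mk _ (MvPolynomial.X (e3inv y)) :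
        CurveAlg3 R (v .a) (v .cb - v .c) (v .c) d)) := by
    refine Ideal.span_le.2 ?_
    intro p hp
    rcases Set.mem_insert_iff.1 hp with rfl | ((⟨i, -⟩ | ⟨i, -⟩) | ⟨⟨⟨i, -⟩, -⟩, -⟩)
    · show MvPolynomial.aeval _ (cubicP v d) = 0
      simp only [cubicP, map_add, map_sub, map_mul, map_pow, MvPolynomial.aeval_X, MvPolynomial.aeval_C, e3inv]
      have : (Ideal.Quotient.mk (Ideal.span _) _ : CurveAlg3 R (v .a) (v .cb - v .c) (v .c) d) = 0 :=
        Ideal.Quotient.eq_zero_iff_mem.2 (Ideal.subset_span rfl)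
      have hCC : ∀ r, (Ideal.Quotient.mk _ (MvPolynomial.C r) : CurveAlg3 R (v .a) (v .cb - v .c) (v .c) d) =
          algebraMap R _ r := fun r => rfl
      simp only [map_add, map_sub, map_mul, map_pow, hCC] at this
      linear_combination this
    all_goals exact i.elim0
  let F : CPlus v d →ₐ[R] CurveAlg3 R (v .a) (v .cb - v .c) (v .c) d :=
    Ideal.Quotient.liftₐ _ _ fun p hp => hF hp
  have hG : Ideal.span {(MvPolynomial.X 0 * MvPolynomial.X 1 ^ 2 - MvPolynomial.X 0 ^ 2 * MvPolynomial.X 1 -
      (MvPolynomial.C (v .a) * MvPolynomial.X 0 * MvPolynomial.X 1 + MvPolynomial.C (v .cb - v .c) * MvPolynomial.X 0 +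
        MvPolynomial.C (v .c) * MvPolynomial.X 1 + MvPolynomial.C d) : MvPolynomial (Fin 2) R)} ≤
      RingHom.ker (MvPolynomial.aeval (R := R) fun y => (Ideal.Quotient.mk _ (MvPolynomial.X (e3 y)) : CPlus v d)) := by
    refine Ideal.span_le.2 (Set.singleton_subset_iff.2 ?_)
    show MvPolynomial.aeval _ _ = 0
    simp only [map_add, map_sub, map_mul, map_pow, MvPolynomial.aeval_X, MvPolynomial.aeval_C, e3]
    linear_combination relC v d
  let G : CurveAlg3 R (v .a) (v .cb - v .c) (v .c) d →ₐ[R] CPlus v d :=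
    Ideal.Quotient.liftₐ _ _ fun p hp => hG hp
  have hFX : ∀ y, F (Ideal.Quotient.mk _ (MvPolynomial.X y)) = Ideal.Quotient.mk _ (MvPolynomial.X (e3inv y)) :=
    fun y => MvPolynomial.aeval_X _ y
  have hGX : ∀ y, G (Ideal.Quotient.mk _ (MvPolynomial.X y)) = Ideal.Quotient.mk _ (MvPolynomial.X (e3 y)) :=
    fun y => MvPolynomial.aeval_X _ y
  have hGF : G.comp F = AlgHom.id R _ := by
    refine Ideal.Quotient.algHom_ext _ (MvPolynomial.algHom_ext fun y => ?_)
    show G (F (Ideal.Quotient.mk _ (MvPolynomial.X y))) = Ideal.Quotient.mk _ (MvPolynomial.X y)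
    rw [hFX, hGX]
    cases y with
    | xi i => exact i.elim0
    | _ => rfl
  have hFG : F.comp G = AlgHom.id R _ := by
    refine Ideal.Quotient.algHom_ext _ (MvPolynomial.algHom_ext fun y => ?_)
    show F (G (Ideal.Quotient.mk _ (MvPolynomial.X y))) = Ideal.Quotient.mk _ (MvPolynomial.X y)
    rw [hGX, hFX]
    fin_cases y <;> rfl
  let e : CPlus v d ≃ₐ[R] CurveAlg3 R (v .a) (v .cb - v .c) (v .c) d := AlgEquiv.ofAlgHom F G hFG hGF
  let idx : Option (ℕ ⊕ (CVar 0 × ℕ)) → Option (ℕ ⊕ (Fin 2 × ℕ)) :=
    Option.map (Sum.map id (Prod.map e3inv id))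
  have hidx : ∀ x, e (cmonP v d x) = cmon3 R (v .a) (v .cb - v .c) (v .c) d (idx x) := by
    intro x
    show F (cmonP v d x) = _
    rcases x with _ | k | ⟨y, k⟩
    · simp [cmonP, cmon3, idx]
    · simp [cmonP, cmon3, idx, hFX, e3inv]
    · simp [cmonP, cmon3, idx, hFX]
  have hbij : Function.Bijective idx := by
    have e03 : ∀ y, e3 (e3inv y) = y := fun y => by
      cases y with
      | xi i => exact i.elim0
      | _ => rfl
    have e30 : ∀ y, e3inv (e3 y) = y := fun y => by fin_cases y <;> rfl
    refine Function.bijective_iff_has_inverse.2 ⟨Option.map (Sum.map id (Prod.map e3 id)), ?_, ?_⟩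
    · rintro (_ | k | ⟨y, k⟩) <;> simp [idx, e03]
    · rintro (_ | k | ⟨y, k⟩) <;> simp [idx, e30]
  have heq : e.toLinearEquiv.toLinearMap ∘ cmonP v d = cmon3 R (v .a) (v .cb - v .c) (v .c) d ∘ idx :=
    funext hidx
  refine ⟨LinearIndependent.of_comp e.toLinearEquiv.toLinearMap ?_, ?_⟩
  · rw [heq]
    exact h1.comp _ hbij.1
  · apply Submodule.map_injective_of_injective (f := e.toLinearEquiv.toLinearMap) e.toLinearEquiv.injective
    rw [Submodule.map_span, ← Set.range_comp, heq, hbij.2.range_comp, h2, Submodule.map_top,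
      LinearEquiv.range]

theorem isMonBasis_of_rels : ∀ (m : ℕ) (v : UGen m → R) (d : R),
    Rels v → (∀ i, d = dOf v i) → IsMonBasis v d
  | 0, v, d, _, _ => isMonBasis_zero v d
  | m + 1, v, d, h, hd =>
    isMonBasis_succ v d h (hd _) (isMonBasis_of_rels m _ d h.restrict (fun i => hd i.castSucc))

theorem span_CRelP_eq {v : UGen m → R} (i : Fin m) :
    Ideal.span (CRelP v (dOf v i)) = Ideal.span (CRel R m v) := by
  refine le_antisymm (Ideal.span_le.2 (Set.insert_subset ?_ Ideal.subset_span)) (Ideal.span_mono (Set.subset_insert _ _))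
  have hmem : ∀ p ∈ CRel R m v, (Ideal.Quotient.mk (Ideal.span (CRel R m v)) p : CurveAlg R m v) = 0 :=
    fun p hp => Ideal.Quotient.eq_zero_iff_mem.2 (Ideal.subset_span hp)
  have h1 := hmem _ (Or.inl (Or.inl ⟨i, rfl⟩))
  have h2 := hmem _ (Or.inl (Or.inr ⟨i, rfl⟩))
  refine Ideal.Quotient.eq_zero_iff_mem.1 ?_
  simp only [cubicP, dOf, sOf, map_add, map_sub, map_mul, map_pow, map_neg] at h1 h2 ⊢
  have e := id_cubic (S := CurveAlg R m v)
    (a := Ideal.Quotient.mk _ (MvPolynomial.C (v .a))) (c := Ideal.Quotient.mk _ (MvPolynomial.C (v .c)))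
    (cb := Ideal.Quotient.mk _ (MvPolynomial.C (v .cb))) (x2 := Ideal.Quotient.mk _ (MvPolynomial.X .x2))
    (x3 := Ideal.Quotient.mk _ (MvPolynomial.X .x3)) (xi := Ideal.Quotient.mk _ (MvPolynomial.X (.xi i)))
    (ci := Ideal.Quotient.mk _ (MvPolynomial.C (v (.ci i)))) (bi := Ideal.Quotient.mk _ (MvPolynomial.C (v (.cbi i))))
    (by linear_combination h1) (by linear_combination h2) rfl
  linear_combination e

end Groth.Agent.Lib.CurveU16
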