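import Groth.Prelude.Def_W4c5m1nsnscurvesC
import Groth.Prelude.Def_W4c5m1nsnscurvesI
import Mathlib.Tactic.LinearCombination

/-!
The relations of `U_n` in scalar form, and the identities between the relations of the affine curve.
-/

universe u v

namespace Groth.Agent.Lib.CurveU16

open MvPolynomial W4c5m1nsnscurves

variable {R : Type u} [CommRing R] {m : ℕ}

/-- `v` satisfies the relations of `U_n` -/
def Rels (v : UGen m → R) : Prop := ∀ p ∈ URel R m, eval v p = 0

/-- `s_i = a + c_i + c̄_i` -/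
def sOf (v : UGen m → R) (i : Fin m) : R := v .a + v (.ci i) + v (.cbi i)

/-- the constant term of the cubic at the point `i` -/
def dOf (v : UGen m → R) (i : Fin m) : R :=
  -(v .c) * sOf v i + v (.ci i) * (sOf v i * v (.cbi i) - v .cb + v .c)

variable {v : UGen m → R}

lemma Rels.r1 (h : Rels v) (i j : Fin m) (hij : i ≠ j) :
    v (.cij i j hij) + v (.cij j i hij.symm) = v .a + v (.ci i) + v (.cbi i) + v (.ci j) + v (.cbi j) := by
  have := h _ (Or.inl (Or.inl (Or.inl ⟨⟨(i, j), hij⟩, rfl⟩)))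
  simp only [map_add, map_sub, eval_X] at this
  linear_combination this

lemma Rels.r2 (h : Rels v) (i j : Fin m) (hij : i ≠ j) :
    v .c = v (.cij j i hij.symm) * v (.ci j) + v (.cij i j hij) * v (.ci i) - v (.ci i) * v (.ci j) := by
  have := h _ (Or.inl (Or.inl (Or.inr ⟨⟨(i, j), hij⟩, rfl⟩)))
  simp only [map_add, map_sub, map_mul, eval_X] at this
  linear_combination -this

lemma Rels.r3 (h : Rels v) (i j : Fin m) (hij : i ≠ j) :
    v .cb = v (.cij j i hij.symm) * v (.cbi i) + v (.cij i j hij) * v (.cbi j) - v (.cbi i) * v (.cbi j) := by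
  have := h _ (Or.inl (Or.inr ⟨⟨(i, j), hij⟩, rfl⟩))
  simp only [map_add, map_sub, map_mul, eval_X] at this
  linear_combination -this

lemma Rels.r4 (h : Rels v) (i j k : Fin m) (hij : i ≠ j) (hjk : j ≠ k) (hik : i ≠ k) :
    v (.cij i j hij) * v (.cij j k hjk) + v (.cij j i hij.symm) * v (.cij i k hik) -
      v (.cij i k hik) * v (.cij j k hjk) + sOf v k * v (.ci k) - v .c = 0 := by
  have := h _ (Or.inr ⟨⟨(i, j, k), hij, hjk, hik⟩, rfl⟩)
  simp only [map_add, map_sub, map_mul, eval_X] at this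
  simp only [sOf]
  linear_combination this

lemma Rels.restrict {v : UGen (m + 1) → R} (h : Rels v) : Rels (v ∘ UGen.castSucc) := by
  intro p hp
  have := h _ (rename_castSucc_mem_URel R m hp)
  rwa [eval_rename] at this

lemma dOf_eq_of_rels (h : Rels v) (i j : Fin m) : dOf v i = dOf v j := by
  by_cases hij : i = j
  · rw [hij]
  have e1 := h.r1 i j hij
  have hq : v (.cij j i (Ne.symm hij)) = v .a + v (.ci i) + v (.cbi i) + v (.ci j) + v (.cbi j) - v (.cij i j hij) := by
    linear_combination e1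
  simp only [dOf, sOf, h.r2 i j hij, h.r3 i j hij, hq]
  ring

section identities

variable {S : Type v} [CommRing S] {a c cb d x2 x3 xi xj ci bi cj bj cn bn p q pj qj cij cji : S}

lemma id_D1 (r1 : x2 * xi = x2 * x3 + ci * xi + bi * x2 - c)
    (hq : q = a + ci + bi + cn + bn - p) (hc : c = q * cn + p * ci - ci * cn)
    (hcb : cb = q * bi + p * bn - bi * bn) :
    x2 * (x2 * x3 + q * xi - c) + p * (x2 * x3 + bn * x2 - c) -
      (x2 * (x2 * x3 - (a + cn + bn) * bn + cb - c) + (a + cn + bn) * (x2 * x3 + bn * x2 - c)) -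
      ci * (x2 * x3 + q * xi - c) - bi * (x2 * x3 + bn * x2 - c) = 0 := by
  subst hq hc hcb
  linear_combination (a + ci + bi + cn + bn - p) * r1

lemma id_D2 (r2 : x3 * xi = x2 * x3 + (a + ci + bi) * (xi - bi) + cb - c)
    (rc : x2 * x3 ^ 2 = x2 ^ 2 * x3 + a * x2 * x3 + (cb - c) * x2 + c * x3 + d)
    (hq : q = a + ci + bi + cn + bn - p) (hc : c = q * cn + p * ci - ci * cn)
    (hcb : cb = q * bi + p * bn - bi * bn)
    (hd : d = -c * (a + cn + bn) + cn * ((a + cn + bn) * bn - cb + c)) :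
    x3 * (x2 * x3 + q * xi - c) + p * (x2 * x3 - (a + cn + bn) * bn + cb - c) -
      (x2 * (x2 * x3 - (a + cn + bn) * bn + cb - c) + (a + cn + bn) * (x2 * x3 + bn * x2 - c)) -
      (a + ci + bi) * (x2 * x3 + q * xi - c) = 0 := by
  subst hq hd hc hcb
  linear_combination rc + (a + ci + bi + cn + bn - p) * r2

lemma id_D3 (r1 : x2 * xi = x2 * x3 + ci * xi + bi * x2 - c)
    (r2 : x3 * xi = x2 * x3 + (a + ci + bi) * (xi - bi) + cb - c)
    (r3 : xi * xj = x2 * x3 + cij * xj + cji * xi - c)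
    (hji : cji = a + ci + bi + cj + bj - cij) (hqj : qj = a + cj + bj + cn + bn - pj)
    (ht : qj * cji + pj * q - cji * q + (a + ci + bi) * ci - c = 0) :
    xi * (x2 * x3 + qj * xj - c) + pj * (x2 * x3 + q * xi - c) -
      (x2 * (x2 * x3 - (a + cn + bn) * bn + cb - c) + (a + cn + bn) * (x2 * x3 + bn * x2 - c)) -
      cij * (x2 * x3 + qj * xj - c) - cji * (x2 * x3 + q * xi - c) = 0 := by
  subst hji hqj
  linear_combination x2 * r2 + (a + ci + bi) * r1 + (a + cj + bj + cn + bn - pj) * r3 + xi * ht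

lemma id_Dc (rc : x2 * x3 ^ 2 = x2 ^ 2 * x3 + a * x2 * x3 + (cb - c) * x2 + c * x3 + d)
    (hd : d = -c * (a + cn + bn) + cn * ((a + cn + bn) * bn - cb + c)) :
    x2 * (x3 * (x2 * x3 - (a + cn + bn) * bn + cb - c) +
          (a + cn + bn) * (x2 * x3 - (a + cn + bn) * bn + cb - c)) +
        (a + cn + bn) ^ 2 * (x2 * x3 + bn * x2 - c) -
      (x2 ^ 2 * (x2 * x3 - (a + cn + bn) * bn + cb - c) +
        (a + cn + bn) * (x2 * (x2 * x3 + bn * x2 - c) + cn * (x2 * x3 + bn * x2 - c))) -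
      a * (x2 * (x2 * x3 - (a + cn + bn) * bn + cb - c) + (a + cn + bn) * (x2 * x3 + bn * x2 - c)) -
      (cb - c) * (x2 * x3 + bn * x2 - c) - c * (x2 * x3 - (a + cn + bn) * bn + cb - c) = 0 := by
  subst hd
  linear_combination x2 * rc

lemma id_C23 (rc : x2 * x3 ^ 2 = x2 ^ 2 * x3 + a * x2 * x3 + (cb - c) * x2 + c * x3 + d)
    (hd : d = -c * (a + cn + bn) + cn * ((a + cn + bn) * bn - cb + c)) :
    (x2 - cn) * (x2 * x3 - (a + cn + bn) * bn + cb - c) =
      (x3 - (a + cn + bn)) * (x2 * x3 + bn * x2 - c) := by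
  subst hd
  linear_combination -rc

lemma id_C2i (r1 : x2 * xi = x2 * x3 + ci * xi + bi * x2 - c)
    (r2 : x3 * xi = x2 * x3 + (a + ci + bi) * (xi - bi) + cb - c)
    (hq : q = a + ci + bi + cn + bn - p) (hc : c = q * cn + p * ci - ci * cn)
    (hcb : cb = q * bi + p * bn - bi * bn) :
    (x2 - cn) * (x2 * x3 + q * xi - c) = (xi - p) * (x2 * x3 + bn * x2 - c) := by
  subst hq hc hcb
  linear_combination -x2 * r2 + (a + ci + bi + cn + bn - p - (a + ci + bi) - bn) * r1

lemma id_C3i (r1 : x2 * xi = x2 * x3 + ci * xi + bi * x2 - c)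
    (r2 : x3 * xi = x2 * x3 + (a + ci + bi) * (xi - bi) + cb - c)
    (rc : x2 * x3 ^ 2 = x2 ^ 2 * x3 + a * x2 * x3 + (cb - c) * x2 + c * x3 + d)
    (hq : q = a + ci + bi + cn + bn - p) (hc : c = q * cn + p * ci - ci * cn)
    (hcb : cb = q * bi + p * bn - bi * bn)
    (hd : d = -c * (a + cn + bn) + cn * ((a + cn + bn) * bn - cb + c)) :
    (x3 - (a + cn + bn)) * (x2 * x3 + q * xi - c) =
      (xi - p) * (x2 * x3 - (a + cn + bn) * bn + cb - c) := by
  subst hq hd hc hcb
  linear_combination rc + (a + ci + bi + cn + bn - p) * r2 - x2 * r2 - (a + ci + bi) * r1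

lemma id_Cij (r1i : x2 * xi = x2 * x3 + ci * xi + bi * x2 - c)
    (r2i : x3 * xi = x2 * x3 + (a + ci + bi) * (xi - bi) + cb - c)
    (r1j : x2 * xj = x2 * x3 + cj * xj + bj * x2 - c)
    (r2j : x3 * xj = x2 * x3 + (a + cj + bj) * (xj - bj) + cb - c)
    (r3 : xi * xj = x2 * x3 + cij * xj + cji * xi - c)
    (hji : cji = a + ci + bi + cj + bj - cij) (hqj : qj = a + cj + bj + cn + bn - pj)
    (hqi : q = a + ci + bi + cn + bn - p)
    (hti : qj * cji + pj * q - cji * q + (a + ci + bi) * ci - c = 0)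
    (htj : q * cij + p * qj - cij * qj + (a + cj + bj) * cj - c = 0) :
    (xi - p) * (x2 * x3 + qj * xj - c) = (xj - pj) * (x2 * x3 + q * xi - c) := by
  subst hji hqj hqi
  linear_combination x2 * r2i + (a + ci + bi) * r1i - x2 * r2j - (a + cj + bj) * r1j +
    ((a + cj + bj + cn + bn - pj) - (a + ci + bi + cn + bn - p)) * r3 + xi * hti - xj * htj

lemma id_cubic (r1 : x2 * xi = x2 * x3 + ci * xi + bi * x2 - c)
    (r2 : x3 * xi = x2 * x3 + (a + ci + bi) * (xi - bi) + cb - c)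
    (hd : d = -c * (a + ci + bi) + ci * ((a + ci + bi) * bi - cb + c)) :
    x2 * x3 ^ 2 = x2 ^ 2 * x3 + a * x2 * x3 + (cb - c) * x2 + c * x3 + d := by
  subst hd
  linear_combination x2 * r2 - x3 * r1 + (a + ci + bi) * r1 - ci * r2

end identities

end Groth.Agent.Lib.CurveU16
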