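import Groth.Agent.Lib.CurveU16.Conv

/-!
The affine curve over `U_n` is `U_{n+1}`.
-/

universe u v

namespace Groth.Agent.Lib.CurveU16

open W4c5m1nsnscurves MvPolynomial

variable (R : Type u) [CommRing R] (m : ℕ)

theorem rels_ugen : Rels (ugen R m) := by
  intro p hp
  have hu : ∀ g, ugen R m g = Ideal.Quotient.mk (Ideal.span (URel R m)) (X g) := fun g => rfl
  have h0 : ∀ q ∈ URel R m, Ideal.Quotient.mk (Ideal.span (URel R m)) q = (0 : URing R m) := fun q hq =>
    Ideal.Quotient.eq_zero_iff_mem.2 (Ideal.subset_span hq)
  rcases hp with ((⟨q, rfl⟩ | ⟨q, rfl⟩) | ⟨q, rfl⟩) | ⟨q, rfl⟩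
  · have := h0 _ (Or.inl (Or.inl (Or.inl ⟨q, rfl⟩)))
    simp only [map_add, map_sub, eval_X, hu] at this ⊢
    exact this
  · have := h0 _ (Or.inl (Or.inl (Or.inr ⟨q, rfl⟩)))
    simp only [map_add, map_sub, map_mul, eval_X, hu] at this ⊢
    exact this
  · have := h0 _ (Or.inl (Or.inr ⟨q, rfl⟩))
    simp only [map_add, map_sub, map_mul, eval_X, hu] at this ⊢
    exact this
  · have := h0 _ (Or.inr ⟨q, rfl⟩)
    simp only [map_add, map_sub, map_mul, eval_X, hu] at this ⊢
    exact this

lemma uincl_ugen (g : UGen m) : uincl R m (ugen R m g) = ugen R (m + 1) (UGen.castSucc g) := by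
  show Ideal.Quotient.mk _ (rename UGen.castSucc (X g)) = _
  rw [rename_X]
  rfl

/-- values of the variables of the curve in `U_{n+1}` -/
noncomputable def toU : CVar m → URing R (m + 1)
  | .x2 => ugen R (m + 1) (.ci (Fin.last m))
  | .x3 => ugen R (m + 1) .a + ugen R (m + 1) (.ci (Fin.last m)) + ugen R (m + 1) (.cbi (Fin.last m))
  | .xi i => ugen R (m + 1) (.cij i.castSucc (Fin.last m) (Fin.castSucc_lt_last i).ne)

/-- a total version of `c_{ij}` in the curve algebra over `U_n` -/
noncomputable def cijT (i j : Fin m) : CurveAlg (URing R m) m (ugen R m) :=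
  if h : i = j then 0 else algebraMap (URing R m) _ (ugen R m (.cij i j h))

/-- the classes of the variables -/
noncomputable def cx (y : CVar m) : CurveAlg (URing R m) m (ugen R m) :=
  Ideal.Quotient.mk (Ideal.span (CRel (URing R m) m (ugen R m))) (X y)

/-- the constants -/
noncomputable def ck (g : UGen m) : CurveAlg (URing R m) m (ugen R m) :=
  algebraMap (URing R m) (CurveAlg (URing R m) m (ugen R m)) (ugen R m g)

/-- values of the generators of `U_{n+1}` in the curve -/
noncomputable def toC : UGen (m + 1) → CurveAlg (URing R m) m (ugen R m)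
  | .a => ck R m .a
  | .c => ck R m .c
  | .cb => ck R m .cb
  | .ci i => Fin.lastCases (motive := fun _ => CurveAlg (URing R m) m (ugen R m))
      (cx R m .x2) (fun j => ck R m (.ci j)) i
  | .cbi i => Fin.lastCases (motive := fun _ => CurveAlg (URing R m) m (ugen R m))
      (cx R m .x3 - ck R m .a - cx R m .x2)
      (fun j => ck R m (.cbi j)) i
  | .cij i j _ => Fin.lastCases (motive := fun _ => CurveAlg (URing R m) m (ugen R m))
      (Fin.lastCases (motive := fun _ => CurveAlg (URing R m) m (ugen R m)) 0
        (fun j' => ck R m (.ci j') + ck R m (.cbi j') +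
          cx R m .x3 - cx R m (.xi j')) j)
      (fun i' => Fin.lastCases (motive := fun _ => CurveAlg (URing R m) m (ugen R m))
        (cx R m (.xi i')) (fun j' => cijT R m i' j') j) i

set_option maxHeartbeats 1000000 in
theorem curve_iso (hm : 1 ≤ m) :
    ∃ e : CurveAlg (URing R m) m (ugen R m) ≃+* URing R (m + 1),
      (∀ r : URing R m, e (algebraMap (URing R m) (CurveAlg (URing R m) m (ugen R m)) r) = uincl R m r) ∧
      ∀ y, e (Ideal.Quotient.mk (Ideal.span (CRel (URing R m) m (ugen R m))) (X y)) = toU R m y := by
  classical
  have hne : ∀ i : Fin m, i.castSucc ≠ Fin.last m := fun i => (Fin.castSucc_lt_last i).ne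
  have U := rels_ugen R (m + 1)
  have W := rels_ugen R m
  -- forward
  let F₀ : MvPolynomial (CVar m) (URing R m) →+* URing R (m + 1) := eval₂Hom (uincl R m).toRingHom (toU R m)
  have hF₀X : ∀ y, F₀ (X y) = toU R m y := fun y => eval₂Hom_X' _ _ _
  have hF₀C : ∀ r, F₀ (C r) = uincl R m r := fun r => eval₂Hom_C _ _ _
  have hF₀ : ∀ p ∈ Ideal.span (CRel (URing R m) m (ugen R m)), F₀ p = 0 := by
    intro p hp
    refine (Ideal.span_le.2 ?_ : _ ≤ RingHom.ker F₀) hp
    intro q hq
    show F₀ q = 0
    rcases hq with (⟨i, rfl⟩ | ⟨i, rfl⟩) | ⟨⟨⟨i, j⟩, hij⟩, rfl⟩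
    · simp only [map_add, map_sub, map_mul, hF₀X, hF₀C, uincl_ugen, UGen.castSucc, toU]
      linear_combination U.r2 i.castSucc (Fin.last m) (hne i) +
        ugen R (m + 1) (.ci (Fin.last m)) * U.r1 i.castSucc (Fin.last m) (hne i)
    · simp only [map_add, map_sub, map_mul, hF₀X, hF₀C, uincl_ugen, UGen.castSucc, toU]
      linear_combination (-1 : URing R (m + 1)) * U.r3 i.castSucc (Fin.last m) (hne i) +
        U.r2 i.castSucc (Fin.last m) (hne i) +
        (ugen R (m + 1) (.ci (Fin.last m)) - ugen R (m + 1) (.cbi i.castSucc)) *
          U.r1 i.castSucc (Fin.last m) (hne i)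
    · simp only [map_add, map_sub, map_mul, hF₀X, hF₀C, uincl_ugen, UGen.castSucc, toU]
      have h4 := U.r4 i.castSucc j.castSucc (Fin.last m) (fun e => hij (Fin.castSucc_injective _ e)) (hne j) (hne i)
      simp only [sOf] at h4
      linear_combination -h4
  let F : CurveAlg (URing R m) m (ugen R m) →+* URing R (m + 1) := Ideal.Quotient.lift _ F₀ hF₀
  have hFX : ∀ y, F (Ideal.Quotient.mk _ (X y)) = toU R m y := hF₀X
  have hFC : ∀ r, F (algebraMap (URing R m) _ r) = uincl R m r := hF₀C
  -- backward
  let ρ : R →+* CurveAlg (URing R m) m (ugen R m) :=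
    (algebraMap (URing R m) (CurveAlg (URing R m) m (ugen R m))).comp (algebraMap R (URing R m))
  let G₀ : MvPolynomial (UGen (m + 1)) R →+* CurveAlg (URing R m) m (ugen R m) := eval₂Hom ρ (toC R m)
  have hG₀X : ∀ y, G₀ (X y) = toC R m y := fun y => eval₂Hom_X' _ _ _
  let κ := algebraMap (URing R m) (CurveAlg (URing R m) m (ugen R m))
  have hcij : ∀ (i j : Fin m) (h : i ≠ j), cijT R m i j = κ (ugen R m (.cij i j h)) := fun i j h => dif_neg h
  have k1 : ∀ (i j : Fin m) (h : i ≠ j), κ (ugen R m (.cij i j h)) + κ (ugen R m (.cij j i h.symm)) =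
      κ (ugen R m .a) + κ (ugen R m (.ci i)) + κ (ugen R m (.cbi i)) + κ (ugen R m (.ci j)) + κ (ugen R m (.cbi j)) := by
    intro i j h
    simp only [← map_add]
    rw [W.r1 i j h]
  have k2 : ∀ (i j : Fin m) (h : i ≠ j), κ (ugen R m .c) = κ (ugen R m (.cij j i h.symm)) * κ (ugen R m (.ci j)) +
      κ (ugen R m (.cij i j h)) * κ (ugen R m (.ci i)) - κ (ugen R m (.ci i)) * κ (ugen R m (.ci j)) := by
    intro i j h
    simp only [← map_add, ← map_mul, ← map_sub]
    rw [← W.r2 i j h]
  have k3 : ∀ (i j : Fin m) (h : i ≠ j), κ (ugen R m .cb) = κ (ugen R m (.cij j i h.symm)) * κ (ugen R m (.cbi i)) +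
      κ (ugen R m (.cij i j h)) * κ (ugen R m (.cbi j)) - κ (ugen R m (.cbi i)) * κ (ugen R m (.cbi j)) := by
    intro i j h
    simp only [← map_add, ← map_mul, ← map_sub]
    rw [← W.r3 i j h]
  have k4 : ∀ (i j k : Fin m) (hij : i ≠ j) (hjk : j ≠ k) (hik : i ≠ k),
      κ (ugen R m (.cij i j hij)) * κ (ugen R m (.cij j k hjk)) +
      κ (ugen R m (.cij j i hij.symm)) * κ (ugen R m (.cij i k hik)) -
      κ (ugen R m (.cij i k hik)) * κ (ugen R m (.cij j k hjk)) +
      (κ (ugen R m .a) + κ (ugen R m (.ci k)) + κ (ugen R m (.cbi k))) * κ (ugen R m (.ci k)) - κ (ugen R m .c) = 0 := by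
    intro i j k hij hjk hik
    simp only [← map_add, ← map_mul, ← map_sub]
    have := W.r4 i j k hij hjk hik
    simp only [sOf] at this
    rw [this, map_zero]
  simp only [κ] at k1 k2 k3 k4 hcij
  have hG₀ : ∀ p ∈ Ideal.span (URel R (m + 1)), G₀ p = 0 := by
    intro p hp
    refine (Ideal.span_le.2 ?_ : _ ≤ RingHom.ker G₀) hp
    intro q hq
    show G₀ q = 0
    rcases hq with ((⟨⟨⟨i, j⟩, hij⟩, rfl⟩ | ⟨⟨⟨i, j⟩, hij⟩, rfl⟩) | ⟨⟨⟨i, j⟩, hij⟩, rfl⟩) |
      ⟨⟨⟨i, j, k⟩, hij, hjk, hik⟩, rfl⟩
    · simp only [map_add, map_sub, hG₀X, toC, cx, ck]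
      induction i using Fin.lastCases with
      | last =>
        induction j using Fin.lastCases with
        | last => exact absurd rfl hij
        | cast j => simp only [Fin.lastCases_last, Fin.lastCases_castSucc]; ring
      | cast i =>
        induction j using Fin.lastCases with
        | last => simp only [Fin.lastCases_last, Fin.lastCases_castSucc]; ring
        | cast j =>
          have h : i ≠ j := fun e => hij (by rw [e])
          simp only [Fin.lastCases_castSucc, hcij i j h, hcij j i h.symm]
          linear_combination k1 i j h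
    · simp only [map_add, map_sub, map_mul, hG₀X, toC, cx, ck]
      induction i using Fin.lastCases with
      | last =>
        induction j using Fin.lastCases with
        | last => exact absurd rfl hij
        | cast j =>
          simp only [Fin.lastCases_last, Fin.lastCases_castSucc]
          linear_combination -crel1 (v := ugen R m) j
      | cast i =>
        induction j using Fin.lastCases with
        | last =>
          simp only [Fin.lastCases_last, Fin.lastCases_castSucc]
          linear_combination -crel1 (v := ugen R m) i
        | cast j =>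
          have h : i ≠ j := fun e => hij (by rw [e])
          simp only [Fin.lastCases_castSucc, hcij i j h, hcij j i h.symm]
          linear_combination -k2 i j h
    · simp only [map_add, map_sub, map_mul, hG₀X, toC, cx, ck]
      induction i using Fin.lastCases with
      | last =>
        induction j using Fin.lastCases with
        | last => exact absurd rfl hij
        | cast j =>
          simp only [Fin.lastCases_last, Fin.lastCases_castSucc]
          linear_combination crel2 (v := ugen R m) j - crel1 (v := ugen R m) j
      | cast i =>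
        induction j using Fin.lastCases with
        | last =>
          simp only [Fin.lastCases_last, Fin.lastCases_castSucc]
          linear_combination crel2 (v := ugen R m) i - crel1 (v := ugen R m) i
        | cast j =>
          have h : i ≠ j := fun e => hij (by rw [e])
          simp only [Fin.lastCases_castSucc, hcij i j h, hcij j i h.symm]
          linear_combination -k3 i j h
    · simp only [map_add, map_sub, map_mul, hG₀X, toC, cx, ck]
      induction i using Fin.lastCases with
      | last =>
        induction j using Fin.lastCases with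
        | last => exact absurd rfl hij
        | cast j =>
          induction k using Fin.lastCases with
          | last => exact absurd rfl hik
          | cast k =>
            have h : j ≠ k := fun e => hjk (by rw [e])
            simp only [Fin.lastCases_last, Fin.lastCases_castSucc, hcij j k h]
            linear_combination crel2 (v := ugen R m) j - crel3 (v := ugen R m) j k h -
              k2 k j h.symm + k3 k j h.symm +
              (algebraMap (URing R m) (CurveAlg (URing R m) m (ugen R m)) (ugen R m (.cbi j)) -
                algebraMap (URing R m) (CurveAlg (URing R m) m (ugen R m)) (ugen R m (.ci k)) -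
                Ideal.Quotient.mk _ (X (.xi j))) * k1 j k h
      | cast i =>
        induction j using Fin.lastCases with
        | last =>
          induction k using Fin.lastCases with
          | last => exact absurd rfl hjk
          | cast k =>
            have h : i ≠ k := fun e => hik (by rw [e])
            simp only [Fin.lastCases_last, Fin.lastCases_castSucc, hcij i k h]
            linear_combination crel2 (v := ugen R m) i - crel3 (v := ugen R m) i k h -
              k2 k i h.symm + k3 k i h.symm +
              (algebraMap (URing R m) (CurveAlg (URing R m) m (ugen R m)) (ugen R m (.cbi i)) -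
                algebraMap (URing R m) (CurveAlg (URing R m) m (ugen R m)) (ugen R m (.ci k)) -
                Ideal.Quotient.mk _ (X (.xi i))) * k1 i k h
        | cast j =>
          have h : i ≠ j := fun e => hij (by rw [e])
          induction k using Fin.lastCases with
          | last =>
            simp only [Fin.lastCases_last, Fin.lastCases_castSucc, hcij i j h, hcij j i h.symm]
            linear_combination -crel3 (v := ugen R m) i j h
          | cast k =>
            have h' : j ≠ k := fun e => hjk (by rw [e])
            have h'' : i ≠ k := fun e => hik (by rw [e])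
            simp only [Fin.lastCases_castSucc, hcij i j h, hcij j i h.symm, hcij j k h', hcij i k h'']
            linear_combination k4 i j k h h' h''
  let G : URing R (m + 1) →+* CurveAlg (URing R m) m (ugen R m) := Ideal.Quotient.lift _ G₀ hG₀
  have hGu : ∀ y, G (ugen R (m + 1) y) = toC R m y := hG₀X
  have hGR : ∀ r, G (algebraMap R (URing R (m + 1)) r) = ρ r := fun r => eval₂Hom_C _ _ _
  have hGI : ∀ r, G (uincl R m r) = κ r := by
    intro r
    obtain ⟨p, rfl⟩ := Ideal.Quotient.mk_surjective r
    induction p using MvPolynomial.induction_on with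
    | C r =>
      rw [show (Ideal.Quotient.mk (Ideal.span (URel R m)) (C r) : URing R m) = algebraMap R (URing R m) r from rfl,
        AlgHom.commutes, hGR]
      rfl
    | add p q hp hq => simp only [map_add, hp, hq]
    | mul_X p y hp =>
      rw [map_mul, map_mul, map_mul, hp, show (Ideal.Quotient.mk (Ideal.span (URel R m)) (X y) : URing R m) =
        ugen R m y from rfl, uincl_ugen, hGu, map_mul]
      congr 1
      cases y with
      | cij i j h => simp only [UGen.castSucc, toC, Fin.lastCases_castSucc, hcij i j h]; rfl
      | ci i => simp only [UGen.castSucc, toC, Fin.lastCases_castSucc]; rfl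
      | cbi i => simp only [UGen.castSucc, toC, Fin.lastCases_castSucc]; rfl
      | _ => rfl
  have hGF : G.comp F = RingHom.id _ := by
    refine Ideal.Quotient.ringHom_ext (MvPolynomial.ringHom_ext (fun r => ?_) (fun y => ?_))
    · show G (F (algebraMap (URing R m) _ r)) = κ r
      rw [hFC, hGI]
    · show G (F (Ideal.Quotient.mk _ (X y))) = Ideal.Quotient.mk _ (X y)
      rw [hFX]
      cases y with
      | x2 => simp only [toU, hGu, toC, cx, Fin.lastCases_last]
      | x3 => simp only [toU, map_add, hGu, toC, cx, ck, Fin.lastCases_last]; ring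
      | xi i => simp only [toU, hGu, toC, cx, Fin.lastCases_last, Fin.lastCases_castSucc]
  have hFG : F.comp G = RingHom.id _ := by
    refine Ideal.Quotient.ringHom_ext (MvPolynomial.ringHom_ext (fun r => ?_) (fun y => ?_))
    · show F (G (algebraMap R (URing R (m + 1)) r)) = algebraMap R (URing R (m + 1)) r
      rw [hGR, RingHom.comp_apply, hFC, AlgHom.commutes]
    · show F (G (ugen R (m + 1) y)) = ugen R (m + 1) y
      rw [hGu]
      cases y with
      | a => simp only [toC, ck, hFC, uincl_ugen, UGen.castSucc]
      | c => simp only [toC, ck, hFC, uincl_ugen, UGen.castSucc]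
      | cb => simp only [toC, ck, hFC, uincl_ugen, UGen.castSucc]
      | ci i =>
        induction i using Fin.lastCases with
        | last => simp only [toC, cx, Fin.lastCases_last, hFX, toU]
        | cast i => simp only [toC, ck, Fin.lastCases_castSucc, hFC, uincl_ugen, UGen.castSucc]
      | cbi i =>
        induction i using Fin.lastCases with
        | last =>
          simp only [toC, cx, ck, Fin.lastCases_last, map_sub, hFX, hFC, toU, uincl_ugen, UGen.castSucc]
          ring
        | cast i => simp only [toC, ck, Fin.lastCases_castSucc, hFC, uincl_ugen, UGen.castSucc]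
      | cij i j h =>
        induction i using Fin.lastCases with
        | last =>
          induction j using Fin.lastCases with
          | last => exact absurd rfl h
          | cast j =>
            simp only [toC, cx, ck, Fin.lastCases_last, Fin.lastCases_castSucc, map_sub, map_add, hFX, hFC, toU,
              uincl_ugen, UGen.castSucc]
            linear_combination -U.r1 j.castSucc (Fin.last m) (hne j)
        | cast i =>
          induction j using Fin.lastCases with
          | last => simp only [toC, cx, Fin.lastCases_last, Fin.lastCases_castSucc, hFX, toU]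
          | cast j =>
            simp only [toC, Fin.lastCases_castSucc, hcij i j (fun e => h (by rw [e])), κ, hFC, uincl_ugen,
              UGen.castSucc]
  exact ⟨RingEquiv.ofRingHom F G hFG hGF, hFC, hFX⟩

end Groth.Agent.Lib.CurveU16
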